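import Mathlib

/-!
Interfaces for S1645 (an involution centraliser which is a double cover of an alternating group of degree 9 or 10):
the configuration in the group, the configuration in the centraliser of a product of two three-cycles modulo that
element, and the statements of the modules.
-/

set_option autoImplicit false

namespace H33.TwoAn

universe u

/-- The facts about `C(z) ≅ 2.A_n`, `n = 9, 10`, read off in the model: `x, y, b` are lifts of the three-cycles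
`(0 1 2)`, `(3 4 5)`, `(6 7 8)`, `t` of `(0 6)(1 7)(2 8)(3 4)`, `s` permutes the three blocks cyclically. -/
structure Cfg (G : Type u) [Group G] where
  z : G
  b : G
  x : G
  y : G
  t : G
  h : G
  s : G
  hz : orderOf z = 2
  hb : b ^ 3 = 1
  hx : x ^ 3 = 1
  hy : y ^ 3 = 1
  hbx : Commute b x
  hby : Commute b y
  hxy : Commute x y
  /-- `b, x, y` are independent -/
  indep : Nat.card (Subgroup.closure ({b, x, y} : Set G)) = 27
  hzb : Commute z b
  hzx : Commute z x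
  hzy : Commute z y
  hzt : Commute z t
  hzh : Commute z h
  hzs : Commute z s
  ht : orderOf t = 2
  htz : t ≠ z
  t_b : t * b * t⁻¹ = x
  t_y : t * y * t⁻¹ = y⁻¹
  h_t : h * t * h⁻¹ = t * z
  h_b : h * b * h⁻¹ = x⁻¹
  h_x : h * x * h⁻¹ = b⁻¹
  h_y : h * y * h⁻¹ = y⁻¹
  s_b : s * b * s⁻¹ = x
  s_x : s * x * s⁻¹ = y
  s_y : s * y * s⁻¹ = b
  /-- `z` is the only involution of `C(z)` centralising `b`, or `x b⁻¹ y` -/
  iso_b : ∀ i : G, orderOf i = 2 → Commute i z → Commute i b → i = z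
  iso_f : ∀ i : G, orderOf i = 2 → Commute i z → Commute i (x * b⁻¹ * y) → i = z
  /-- a subgroup of odd order of `C(z, b)` normalised by `C(z, b)` is inside `⟨b⟩` -/
  core_b : ∀ N : Subgroup G, Odd (Nat.card N) → (∀ r ∈ N, Commute r z ∧ Commute r b) →
    (∀ c : G, Commute c z → Commute c b → ∀ r ∈ N, c * r * c⁻¹ ∈ N) → N ≤ Subgroup.zpowers b
  /-- odd elements of some centralisers in `C(z)` -/
  cent_A : ∀ r : G, Odd (orderOf r) → Commute r z → Commute r b → Commute r x → Commute r y →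
    r ∈ Subgroup.closure ({b, x, y} : Set G)
  cent_dy : ∀ r : G, Odd (orderOf r) → Commute r z → Commute r (x * b) → Commute r y →
    r ∈ Subgroup.closure ({b, x, y} : Set G)
  cent_ey : ∀ r : G, Odd (orderOf r) → Commute r z → Commute r (x * b⁻¹) → Commute r y →
    r ∈ Subgroup.closure ({b, x, y} : Set G)
  cent_df : ∀ r : G, Odd (orderOf r) → Commute r z → Commute r (x * b) → Commute r (x * b⁻¹ * y) →
    r ∈ Subgroup.closure ({b, x, y} : Set G)
  fix_t : ∀ r : G, Odd (orderOf r) → Commute r z → Commute r t → Commute r (x * b) →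
    r ∈ Subgroup.zpowers (x * b)
  /-- subgroups of odd order of `C(z, x b)` -/
  odd_d : ∀ S : Subgroup G, Odd (Nat.card S) → (∀ r ∈ S, Commute r z ∧ Commute r (x * b)) →
    Nat.card S ∣ 27 ∧ (∀ r ∈ S, r ^ 3 = 1) ∧ ∀ r ∈ S, ∀ r' ∈ S, Commute r r'
  /-- non-central involutions of `C(z, x b)` -/
  pairs : ∀ i : G, orderOf i = 2 → i ≠ z → Commute i z → Commute i (x * b) →
    ∃ c : G, Commute c z ∧ Commute c (x * b) ∧ (c * i * c⁻¹ = t ∨ c * i * c⁻¹ = t * z)
  /-- `z` and `t` are conjugate in the centraliser of `x b` -/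
  fuse : ∃ g : G, g * z * g⁻¹ = t ∧ g * (x * b) * g⁻¹ = x * b
  /-- two conjugates of `x` (of `x y`) in `C(z, b)` generate a subgroup containing `z` -/
  gen_x : ∃ v : G, Commute v z ∧ Commute v b ∧ (x⁻¹ * (v * x * v⁻¹)) ^ 2 = z
  gen_xy : ∃ v : G, Commute v z ∧ Commute v b ∧ ((x * y)⁻¹ * (v * (x * y) * v⁻¹)) ^ 2 = z

/-- The extra facts of degree nine. -/
structure Cfg.Nine {G : Type u} [Group G] (K : Cfg G) : Prop where
  odd_le : ∀ r : G, Odd (orderOf r) → Commute r K.z → Commute r (K.x * K.b) →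
    r ∈ Subgroup.closure ({K.b, K.x, K.y} : Set G)

/-- The extra facts of degree ten: `q` is a lift of `(3 4)(5 9)`. -/
structure Cfg.Ten {G : Type u} [Group G] (K : Cfg G) (q : G) : Prop where
  hzq : Commute K.z q
  hbq : Commute K.b q
  hxq : Commute K.x q
  q_t : q * K.t * q⁻¹ = K.t * K.z
  gen_q : (K.y⁻¹ * (q * K.y * q⁻¹)) ^ 2 = K.z
  normal_D : ∀ c : G, Commute c K.z → Commute c (K.x * K.b) →
    ∀ r ∈ Subgroup.closure ({K.x * K.b, K.x * K.b⁻¹} : Set G),
      c * r * c⁻¹ ∈ Subgroup.closure ({K.x * K.b, K.x * K.b⁻¹} : Set G)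
  meet : ∀ S S' : Subgroup G, Nat.card S = 27 → Nat.card S' = 27 → S ≠ S' →
    (∀ r ∈ S, Commute r K.z ∧ Commute r (K.x * K.b)) → (∀ r ∈ S', Commute r K.z ∧ Commute r (K.x * K.b)) →
    S ⊓ S' = Subgroup.closure ({K.x * K.b, K.x * K.b⁻¹} : Set G)

/-- The configuration in `L = C(d)/⟨d⟩`, `d = x b`: `w = 2` in degree 9 and `w = 4` in degree 10. -/
structure LCfg (L : Type u) [Group L] where
  z : L
  t : L
  w : ℕ
  A : Subgroup L
  K : Subgroup L
  a₀ : L
  hw : w = 2 ∨ w = 4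
  hz : orderOf z = 2
  ht : orderOf t = 2
  cardC : Nat.card (Subgroup.centralizer ({z} : Set L)) = 9 * w ^ 2
  cardA : Nat.card A = 9
  cube : ∀ a ∈ A, a ^ 3 = 1
  Az : ∀ a ∈ A, Commute a z
  ha₀ : a₀ ∈ A ∧ a₀ ≠ 1
  /-- `K` is the normal 2-subgroup with `C(z)/K` generalised dihedral on `A` -/
  Kle : ∀ k ∈ K, Commute k z
  cardK : 2 * Nat.card K = w ^ 2
  zK : z ∈ K
  Knormal : ∀ c : L, Commute c z → ∀ k ∈ K, c * k * c⁻¹ ∈ K
  tz : Commute t z
  t_inv : ∀ a ∈ A, t * a * t⁻¹ = a⁻¹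
  ht_notMem : ∀ a ∈ A, ∀ k ∈ K, t ≠ a * k
  /-- involutions of `C(z)` other than `z` -/
  invol_outer : ∀ i : L, orderOf i = 2 → Commute i z → i ≠ z → ∀ a ∈ A, ∀ k ∈ K, i ≠ a * k
  invol_card : Nat.card {i : L // orderOf i = 2 ∧ Commute i z ∧ i ≠ z} = 9 * w
  one_class : ∀ i : L, orderOf i = 2 → IsConj i z
  two_part : w ^ 2 ∣ Nat.card L ∧ ¬ 2 * w ^ 2 ∣ Nat.card L
  three_part : ¬ 27 ∣ Nat.card L
  /-- elements conjugating a non-trivial element of `A` into `A` centralise `z` -/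
  control : ∀ a ∈ A, a ≠ 1 → ∀ g : L, g * a * g⁻¹ ∈ A → Commute g z
  /-- centraliser orders -/
  cent_small : ∀ a ∈ A, a ∉ Subgroup.zpowers a₀ → Nat.card (Subgroup.centralizer ({a} : Set L)) = 18
  cent_big : Nat.card (Subgroup.centralizer ({a₀} : Set L)) ≤ 72

/-- Local module: the centraliser of a three-cycle lies in `C(z)`. -/
def LocalStmt : Prop :=
  ∀ (G : Type u) [Group G] [Finite G] (K : Cfg G), (Cfg.Nine K ∨ ∃ q, Cfg.Ten K q) →
    ∀ g : G, Commute g K.b → Commute g K.z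

/-- Order formula: with `X = 18 j + 1`. -/
def OrderStmt : Prop :=
  ∀ (L : Type u) [Group L] [Finite L] (K : LCfg L), ∃ j : ℤ, j ≠ 0 ∧
    (Nat.card L : ℤ) * j ^ 2 = 9 * (K.w : ℤ) ^ 4 * (18 * j + 1) * (9 * j + 1)

/-- The four orders left by the formula are impossible. -/
def SylowStmt : Prop :=
  ∀ (L : Type u) [Group L] [Finite L] (K : LCfg L),
    (∃ j : ℤ, j ≠ 0 ∧ (Nat.card L : ℤ) * j ^ 2 = 9 * (K.w : ℤ) ^ 4 * (18 * j + 1) * (9 * j + 1)) → False

/-- Degree at least twelve. -/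
def BigStmt : Prop :=
  ∀ (G : Type u) [Group G] [Finite G] [IsSimpleGroup G] (n : ℕ), 12 ≤ n → ∀ (z : G), orderOf z = 2 →
    ∀ φ : ↥(Subgroup.centralizer ({z} : Set G)) →* Equiv.Perm (Fin n), φ.range = alternatingGroup (Fin n) →
      (∀ c, φ c = 1 ↔ (c : G) = 1 ∨ (c : G) = z) →
      commutator ↥(Subgroup.centralizer ({z} : Set G)) = ⊤ → False

/-- Degree at most seven. -/
def SmallStmt : Prop :=
  ∀ (G : Type u) [Group G] [Finite G] [IsSimpleGroup G] (n : ℕ), 5 ≤ n → n ≤ 7 → ∀ (z : G), orderOf z = 2 →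
    ∀ φ : ↥(Subgroup.centralizer ({z} : Set G)) →* Equiv.Perm (Fin n), φ.range = alternatingGroup (Fin n) →
      (∀ c, φ c = 1 ↔ (c : G) = 1 ∨ (c : G) = z) →
      commutator ↥(Subgroup.centralizer ({z} : Set G)) = ⊤ → False

/-- Degrees nine and ten give the configuration. -/
def CfgStmt : Prop :=
  ∀ (G : Type u) [Group G] [Finite G] [IsSimpleGroup G] (n : ℕ), n = 9 ∨ n = 10 → ∀ (z : G), orderOf z = 2 →
    ∀ φ : ↥(Subgroup.centralizer ({z} : Set G)) →* Equiv.Perm (Fin n), φ.range = alternatingGroup (Fin n) →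
      (∀ c, φ c = 1 ↔ (c : G) = 1 ∨ (c : G) = z) →
      commutator ↥(Subgroup.centralizer ({z} : Set G)) = ⊤ →
      ∃ K : Cfg G, K.z = z ∧
        ((Cfg.Nine K ∧ Nat.card ↥(Subgroup.centralizer ({z} : Set G) ⊓ Subgroup.centralizer ({K.x * K.b} : Set G)) = 108) ∨
          ((∃ q, Cfg.Ten K q) ∧
            Nat.card ↥(Subgroup.centralizer ({z} : Set G) ⊓ Subgroup.centralizer ({K.x * K.b} : Set G)) = 432))

/-- Reduction: with the three-cycle centraliser inside `C(z)` the configuration gives an `LCfg`. -/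
def ReduceStmt : Prop :=
  ∀ (G : Type u) [Group G] [Finite G] (K : Cfg G),
    ((Cfg.Nine K ∧ Nat.card ↥(Subgroup.centralizer ({K.z} : Set G) ⊓ Subgroup.centralizer ({K.x * K.b} : Set G)) = 108) ∨
      ((∃ q, Cfg.Ten K q) ∧
        Nat.card ↥(Subgroup.centralizer ({K.z} : Set G) ⊓ Subgroup.centralizer ({K.x * K.b} : Set G)) = 432)) →
    (∀ g : G, Commute g K.b → Commute g K.z) → ∃ (L : Type u) (_ : Group L) (_ : Finite L), Nonempty (LCfg L)

end H33.TwoAn
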