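import Mathlib

/-!
Fixed points of elements of order three acting on a finite abelian group.
-/

set_option autoImplicit false

namespace H33.TwoAn

/-- An automorphism of order two without non-trivial fixed point inverts everything. -/
theorem inv_of_fixedPointFree {M : Type*} [Group M] [Finite M] (σ : M ≃* M) (h2 : ∀ g, σ (σ g) = g)
    (hfix : ∀ g, σ g = g → g = 1) (g : M) : σ g = g⁻¹ := by
  have hinj : Function.Injective (fun k : M => k⁻¹ * σ k) := by
    intro a b e
    have e1 : σ (a * b⁻¹) = a * b⁻¹ := by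
      simp only at e
      rw [map_mul, map_inv, mul_inv_eq_iff_eq_mul, mul_assoc, ← e, mul_inv_cancel_left]
    exact mul_inv_eq_one.1 (hfix _ e1)
  obtain ⟨k, hk⟩ := Finite.surjective_of_injective hinj g
  simp only at hk
  rw [← hk, map_mul, map_inv, h2, mul_inv_rev, inv_inv]

variable {V : Type*} [CommGroup V]

/-- The fixed points of an automorphism. -/
def fixG (α : MulAut V) : Subgroup V where
  carrier := {v | α v = v}
  one_mem' := map_one α
  mul_mem' {a b} ha hb := by simp only [Set.mem_ofPred_eq] at *; rw [map_mul, ha, hb]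
  inv_mem' {a} ha := by simp only [Set.mem_ofPred_eq] at *; rw [map_inv, ha]

theorem mem_fixG {α : MulAut V} {v : V} : v ∈ fixG α ↔ α v = v := Iff.rfl

/-- The elements of order dividing three. -/
def cubeG (V : Type*) [CommGroup V] : Subgroup V := (powMonoidHom 3 : V →* V).ker

theorem mem_cubeG {v : V} : v ∈ cubeG V ↔ v ^ 3 = 1 := Iff.rfl

theorem map_cubeG (α : MulAut V) {v : V} (hv : v ∈ cubeG V) : α v ∈ cubeG V := by
  rw [mem_cubeG] at *; rw [← map_pow, hv, map_one]

theorem apply_three {α : MulAut V} (h : α ^ 3 = 1) (v : V) : α (α (α v)) = v := by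
  have := DFunLike.congr_fun h v
  simpa [pow_succ] using this

/-- Two commuting automorphisms of order three. -/
structure Pair (α β : MulAut V) : Prop where
  a3 : α ^ 3 = 1
  b3 : β ^ 3 = 1
  comm : α * β = β * α

variable {α β : MulAut V}

theorem Pair.apply_comm (P : Pair α β) (v : V) : α (β v) = β (α v) := DFunLike.congr_fun P.comm v

/-- If the fixed points of the four lines have exponent three, so has the group up to a factor three. -/
theorem Pair.pow_nine (P : Pair α β) (h1 : ∀ v ∈ fixG α, v ^ 3 = 1) (h2 : ∀ v ∈ fixG β, v ^ 3 = 1)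
    (h3 : ∀ v ∈ fixG (α * β), v ^ 3 = 1) (h4 : ∀ v ∈ fixG (α * β⁻¹), v ^ 3 = 1) (v : V) : v ^ 9 = 1 := by
  have A3 := apply_three P.a3
  have B3 := apply_three P.b3
  have C := P.apply_comm
  have Binv : ∀ w, β⁻¹ w = β (β w) := fun w => by
    apply β.injective
    rw [MulAut.apply_inv_self, B3]
  set N1 := v * α v * α (α v) with hN1
  set N2 := v * β v * β (β v) with hN2
  set N3 := v * α (β v) * α (α (β (β v))) with hN3
  set N4 := v * α (β (β v)) * α (α (β v)) with hN4
  set T := v * β v * β (β v) * (α v * α (β v) * α (β (β v))) * (α (α v) * α (α (β v)) * α (α (β (β v)))) with hT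
  have f1 : α N1 = N1 := by
    simp only [hN1, map_mul, A3]
    exact (mul_comm _ _).trans (mul_assoc _ _ _).symm
  have f2 : β N2 = N2 := by
    simp only [hN2, map_mul, B3]
    exact (mul_comm _ _).trans (mul_assoc _ _ _).symm
  have f3 : (α * β) N3 = N3 := by
    simp only [hN3, MulAut.mul_apply, map_mul, ← C, A3, B3]
    exact (mul_comm _ _).trans (mul_assoc _ _ _).symm
  have f4 : (α * β⁻¹) N4 = N4 := by
    simp only [hN4, MulAut.mul_apply, Binv, map_mul, ← C, A3, B3]
    exact (mul_comm _ _).trans (mul_assoc _ _ _).symm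
  have fT : α T = T := by
    simp only [hT, map_mul, A3]
    exact (mul_comm _ _).trans (mul_assoc _ _ _).symm
  have key : v ^ 3 * T = N1 * N2 * N3 * N4 := by
    simp only [hN1, hN2, hN3, hN4, hT, pow_succ, pow_zero, one_mul]
    ac_rfl
  have e : (v ^ 3 * T) ^ 3 = 1 := by
    rw [key, mul_pow, mul_pow, mul_pow, h1 N1 f1, h2 N2 f2, h3 N3 f3, h4 N4 f4]
    simp
  rw [mul_pow, h1 T fT, mul_one, ← pow_mul] at e
  exact e

/-- An element of order three of a 3-elementary group fixes a non-trivial element of an invariant subgroup. -/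
theorem exists_fixed (h : α ^ 3 = 1) (S : Subgroup V) (hS : ∀ v ∈ S, α v ∈ S) (hc : ∀ v ∈ S, v ^ 3 = 1)
    {v : V} (hv : v ∈ S) (hv1 : v ≠ 1) : ∃ w ∈ S, w ≠ 1 ∧ α w = w := by
  have A3 := apply_three h
  by_cases e1 : α v = v
  · exact ⟨v, hv, hv1, e1⟩
  set u := α v * v⁻¹ with hu
  have huS : u ∈ S := S.mul_mem (hS v hv) (S.inv_mem hv)
  have hu1 : u ≠ 1 := fun e => e1 (mul_inv_eq_one.1 e)
  by_cases e2 : α u = u
  · exact ⟨u, huS, hu1, e2⟩
  refine ⟨α u * u⁻¹, S.mul_mem (hS u huS) (S.inv_mem huS), fun e => e2 (mul_inv_eq_one.1 e), ?_⟩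
  refine mul_inv_eq_one.1 ?_
  have e3 := hc _ (S.mul_mem (hS v hv) (S.inv_mem (hS _ (hS v hv))))
  simp only [hu, map_mul, map_inv, A3]
  calc _ = (α v * (α (α v))⁻¹) ^ 3 := by
        generalize α (α v) = p
        generalize α v = q
        apply Additive.ofMul.injective
        simp only [ofMul_mul, ofMul_inv, ofMul_pow]
        abel
    _ = 1 := e3

variable [Finite V]

theorem card_cubeG_le (h : α ^ 3 = 1) :
    Nat.card (cubeG V) ≤ Nat.card ↥(fixG α ⊓ cubeG V) ^ 3 := by
  let n : V →* V :=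
    { toFun := fun v => α v * v⁻¹
      map_one' := by simp
      map_mul' := fun a b => by rw [map_mul, mul_inv_rev]; ac_rfl }
  have hn : ∀ v, n v = α v * v⁻¹ := fun v => rfl
  have hnc : ∀ v ∈ cubeG V, n v ∈ cubeG V := fun v hv =>
    (cubeG V).mul_mem (map_cubeG α hv) ((cubeG V).inv_mem hv)
  let K1 : Subgroup V := fixG α ⊓ cubeG V
  let K2 : Subgroup V := cubeG V ⊓ K1.comap n
  have step : ∀ (S T : Subgroup V), S ≤ cubeG V → (∀ v ∈ S, n v ∈ T) →
      Nat.card S ≤ Nat.card K1 * Nat.card T := by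
    intro S T hS hT
    let m : S →* T := (n.comp S.subtype).codRestrict T fun v => hT _ v.2
    rw [← Subgroup.card_mul_index m.ker, Subgroup.index_ker]
    refine Nat.mul_le_mul ?_ (Nat.card_le_card_of_injective _ Subtype.val_injective)
    refine Nat.card_le_card_of_injective (fun k => (⟨k.1.1, ?_, hS k.1.2⟩ : K1)) ?_
    · have h1 : n k.1.1 = 1 := congrArg Subtype.val k.2
      exact mul_inv_eq_one.1 h1
    · intro a b e
      exact Subtype.ext (Subtype.ext (congrArg (fun k : K1 => (k : V)) e))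
  have h2 : Nat.card K2 ≤ Nat.card K1 * Nat.card K1 := step K2 K1 inf_le_left fun v hv => hv.2
  have h3 : Nat.card (cubeG V) ≤ Nat.card K1 * Nat.card K2 := by
    refine step _ K2 le_rfl fun v hv => ⟨hnc v hv, ?_, hnc _ (hnc v hv)⟩
    show α (n (n v)) = n (n v)
    refine mul_inv_eq_one.1 ?_
    have e3 := mem_cubeG.1 ((cubeG V).mul_mem (map_cubeG α hv) ((cubeG V).inv_mem (map_cubeG α (map_cubeG α hv))))
    simp only [hn, map_mul, map_inv, apply_three h]
    calc _ = (α v * (α (α v))⁻¹) ^ 3 := by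
          generalize α (α v) = p
          generalize α v = q
          apply Additive.ofMul.injective
          simp only [ofMul_mul, ofMul_inv, ofMul_pow]
          abel
      _ = 1 := e3
  calc Nat.card (cubeG V) ≤ Nat.card K1 * Nat.card K2 := h3
    _ ≤ Nat.card K1 * (Nat.card K1 * Nat.card K1) := Nat.mul_le_mul_left _ h2
    _ = Nat.card K1 ^ 3 := by ring

theorem sq_le_card_cubeG (γ : MulAut V) (hd : ∀ v, α v = v → (γ * α * γ⁻¹) v = v → v = 1) :
    Nat.card ↥(fixG α ⊓ cubeG V) ^ 2 ≤ Nat.card (cubeG V) := by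
  rw [pow_two, ← Nat.card_prod]
  refine Nat.card_le_card_of_injective
    (fun p => (⟨p.1.1 * γ p.2.1, (cubeG V).mul_mem p.1.2.2 (map_cubeG γ p.2.2.2)⟩ : cubeG V)) ?_
  rintro ⟨a, b⟩ ⟨a', b'⟩ e
  have e' : a.1 * γ b.1 = a'.1 * γ b'.1 := congrArg Subtype.val e
  have e1 : a'.1⁻¹ * a.1 = γ (b'.1 * b.1⁻¹) := by
    rw [inv_mul_eq_iff_eq_mul, map_mul, map_inv, ← mul_assoc, eq_mul_inv_iff_mul_eq]
    exact e'
  have ha : α (a'.1⁻¹ * a.1) = a'.1⁻¹ * a.1 :=
    (fixG α).mul_mem ((fixG α).inv_mem a'.2.1) a.2.1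
  have hb : α (b'.1 * b.1⁻¹) = b'.1 * b.1⁻¹ := (fixG α).mul_mem b'.2.1 ((fixG α).inv_mem b.2.1)
  have h0 : a'.1⁻¹ * a.1 = 1 := by
    refine hd _ ha ?_
    rw [MulAut.mul_apply, MulAut.mul_apply, e1, MulAut.inv_apply_self, hb]
  rw [h0] at e1
  have h1 : b'.1 * b.1⁻¹ = 1 := γ.injective (by rw [map_one]; exact e1.symm)
  exact Prod.ext (Subtype.ext (inv_mul_eq_one.1 h0).symm) (Subtype.ext (mul_inv_eq_one.1 h1).symm)

omit [Finite V] in
/-- Two commuting automorphisms of order three fix a non-trivial element of the part of exponent three. -/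
theorem Pair.exists_common (P : Pair α β) {v : V} (hv : v ^ 3 = 1) (hv1 : v ≠ 1) :
    ∃ w, w ^ 3 = 1 ∧ w ≠ 1 ∧ α w = w ∧ β w = w := by
  obtain ⟨w, hw, hw1, hwa⟩ := exists_fixed P.a3 (cubeG V) (fun v => map_cubeG α) (fun v h => h)
    (v := v) hv hv1
  obtain ⟨u, hu, hu1, hub⟩ := exists_fixed P.b3 (cubeG V ⊓ fixG α)
    (fun v h => ⟨map_cubeG β h.1, show α (β v) = β v by rw [P.apply_comm, show α v = v from h.2]⟩)
    (fun v h => h.1) (v := w) ⟨hw, hwa⟩ hw1
  exact ⟨u, hu.1, hu1, hu.2, hub⟩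

end H33.TwoAn
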