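import Cfsg.Agent.H33.TwoAn.Defs
import Cfsg.Agent.H33.TwoAn.Fix
import Cfsg.Agent.H85.BrauerSuzuki

/-!
The odd core of the centraliser of an element of order three in whose centraliser `z` is isolated.
-/

set_option autoImplicit false
set_option linter.unusedSectionVars false

namespace H33.TwoAn

universe u

variable {G : Type u} [Group G] [Finite G]

theorem sq_eq_one_of {z : G} (hz : orderOf z = 2) : z * z = 1 := by
  rw [← pow_two, ← hz, pow_orderOf_eq_one]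

theorem inv_of_two {z : G} (hz : orderOf z = 2) : z⁻¹ = z :=
  inv_eq_of_mul_eq_one_right (sq_eq_one_of hz)

theorem eq_one_of_inv_self {r : G} (ho : Odd (orderOf r)) (h : r⁻¹ = r) : r = 1 := by
  have h2 : orderOf r ∣ 2 := orderOf_dvd_of_pow_eq_one (by rw [pow_two]; nth_rw 1 [← h]; exact inv_mul_cancel r)
  rcases (Nat.dvd_prime Nat.prime_two).1 h2 with e | e
  · exact orderOf_eq_one_iff.1 e
  · rw [e] at ho; exact absurd ho (by decide)

/-- An odd element inverted and centralised is trivial. -/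
theorem eq_one_of_inv_comm {z r : G} (ho : Odd (orderOf r)) (h : z * r * z⁻¹ = r⁻¹) (hc : Commute z r) :
    r = 1 :=
  eq_one_of_inv_self ho (by rw [← h, hc.eq, mul_inv_cancel_right])

theorem eq_of_sq_eq {r r' : G} (ho : Odd (orderOf r)) (ho' : Odd (orderOf r')) (h : r * r = r' * r') :
    r = r' := by
  obtain ⟨k, hk⟩ := ho
  obtain ⟨k', hk'⟩ := ho'
  have hm : Odd (orderOf r * orderOf r') := Odd.mul ⟨k, hk⟩ ⟨k', hk'⟩
  obtain ⟨j, hj⟩ := hm
  calc r = (r * r) ^ (j + 1) := by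
        rw [← pow_two, ← pow_mul, show 2 * (j + 1) = orderOf r * orderOf r' + 1 by omega, pow_succ, pow_mul,
          pow_orderOf_eq_one, one_pow, one_mul]
    _ = (r' * r') ^ (j + 1) := by rw [h]
    _ = r' := by
        rw [← pow_two, ← pow_mul, show 2 * (j + 1) = orderOf r' * orderOf r + 1 by rw [mul_comm (orderOf r')]; omega,
          pow_succ, pow_mul, pow_orderOf_eq_one, one_pow, one_mul]

theorem odd_orderOf_inv {r : G} (ho : Odd (orderOf r)) : Odd (orderOf r⁻¹) := by rwa [orderOf_inv]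

theorem odd_orderOf_conj {r : G} (g : G) (ho : Odd (orderOf r)) : Odd (orderOf (g * r * g⁻¹)) := by
  rwa [show g * r * g⁻¹ = (MulAut.conj g) r from rfl, MulEquiv.orderOf_eq]

theorem commute_conj {a b : G} (g : G) (h : Commute a b) : Commute (g * a * g⁻¹) (g * b * g⁻¹) :=
  h.map (MulAut.conj g).toMonoidHom

/-- Properties of the odd core `W` of `C(c)`. -/
structure Core (z c : G) (W : Subgroup G) : Prop where
  hz : orderOf z = 2
  hc : c ^ 3 = 1
  hzc : Commute z c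
  odd : ∀ r ∈ W, Odd (orderOf r)
  comm : ∀ r ∈ W, Commute r c
  norm : ∀ g : G, g * c * g⁻¹ = c ∨ g * c * g⁻¹ = c⁻¹ → ∀ r ∈ W, g * r * g⁻¹ ∈ W
  inv_mem : ∀ r : G, Odd (orderOf r) → Commute r c → z * r * z⁻¹ = r⁻¹ → r ∈ W
  brk : ∀ g : G, Commute g c → z * g * z⁻¹ * g⁻¹ ∈ W
  cmem : c ∈ W

theorem exists_core {z c : G} (hz : orderOf z = 2) (hc : c ^ 3 = 1) (hzc : Commute z c)
    (hiso : ∀ i : G, orderOf i = 2 → Commute i z → Commute i c → i = z) :
    ∃ W : Subgroup G, Core z c W := by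
  classical
  let H : Subgroup G := Subgroup.centralizer ({c} : Set G)
  have hH : ∀ {g : G}, g ∈ H ↔ Commute g c := Subgroup.mem_centralizer_singleton_iff
  have hzH : z ∈ H := hH.2 hzc
  have hu : Cfsg.IsIsolatedInvolution (⟨z, hzH⟩ : H) := by
    refine ⟨by rw [Subgroup.orderOf_mk]; exact hz, fun g hg => Subtype.ext ?_⟩
    refine hiso _ ?_ (congrArg Subtype.val hg.eq).symm ?_
    · show orderOf ((g : G) * z * (g : G)⁻¹) = 2
      rw [show (g : G) * z * (g : G)⁻¹ = MulAut.conj (g : G) z from rfl, MulEquiv.orderOf_eq, hz]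
    · exact hH.1 (H.mul_mem (H.mul_mem g.2 hzH) (H.inv_mem g.2))
  have hZ := H85.zStar hu
  let O := Cfsg.pPrimeCore 2 H
  let W : Subgroup G := O.map H.subtype
  have hodd : ∀ r ∈ W, Odd (orderOf r) := by
    rintro r ⟨w, hw, rfl⟩
    rw [orderOf_injective H.subtype H.subtype_injective]
    exact H85.odd_orderOf_of_mem_core hw
  have hbrk : ∀ g : G, Commute g c → z * g * z⁻¹ * g⁻¹ ∈ W := fun g hg =>
    ⟨_, hZ ⟨g, hH.2 hg⟩, rfl⟩
  refine ⟨W, hz, hc, hzc, hodd, ?_, ?_, ?_, hbrk, ?_⟩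
  · rintro r ⟨w, -, rfl⟩
    exact hH.1 w.2
  · rintro g hg r ⟨w, hw, rfl⟩
    have hgH : ∀ k : G, k ∈ H → g * k * g⁻¹ ∈ H := by
      intro k hk
      have e := commute_conj g (hH.1 hk)
      rcases hg with h | h <;> rw [h] at e
      · exact hH.2 e
      · exact hH.2 (by simpa using e.inv_right)
    let f : H →* H := ((MulAut.conj g).toMonoidHom.comp H.subtype).codRestrict H fun k => hgH k k.2
    have hf : Function.Injective f := fun a b e =>
      Subtype.ext ((MulAut.conj g).injective (congrArg Subtype.val e))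
    have hn : (O.map f).Normal := by
      have hO : O.Normal := by
        refine ⟨fun n hn k => ?_⟩
        exact (H1.pPrimeCore_normal' 2 H).conj_mem n hn k
      exact hO.map f (Finite.surjective_of_injective hf)
    have hcop : (Nat.card (O.map f)).Coprime 2 := by
      rw [Subgroup.card_map_of_injective hf]
      exact H1.card_pPrimeCore_coprime 2 H
    have hle : O.map f ≤ O := le_sSup ⟨hn, hcop⟩
    exact ⟨f w, hle ⟨w, hw, rfl⟩, rfl⟩
  · intro r ho hr hi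
    have h := hbrk r hr
    rw [hi, ← mul_inv_rev] at h
    obtain ⟨w, hw, hwr⟩ := h
    have h2 : (⟨r, hH.2 hr⟩ : H) * ⟨r, hH.2 hr⟩ ∈ O := by
      have : ((⟨r, hH.2 hr⟩ : H) * ⟨r, hH.2 hr⟩) = w⁻¹ := Subtype.ext (by
        show r * r = ((w : H) : G)⁻¹
        rw [show ((w : H) : G) = (r * r)⁻¹ from hwr, inv_inv])
      rw [this]; exact O.inv_mem hw
    refine ⟨_, H85.mem_of_sq_mem_of_odd ?_ h2, rfl⟩
    rw [Subgroup.orderOf_mk]; exact ho
  · have hcH : c ∈ H := hH.2 (Commute.refl c)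
    let cz : Subgroup H := Subgroup.zpowers ⟨c, hcH⟩
    have hn : cz.Normal := by
      refine ⟨fun n hn k => ?_⟩
      obtain ⟨m, rfl⟩ := hn
      have hk : Commute k (⟨c, hcH⟩ : H) := Subtype.ext (hH.1 k.2).eq
      rw [(hk.zpow_right m).eq, mul_inv_cancel_right]
      exact ⟨m, rfl⟩
    have hcop : (Nat.card cz).Coprime 2 := by
      rw [Nat.card_zpowers, Subgroup.orderOf_mk]
      exact Nat.Coprime.coprime_dvd_left (orderOf_dvd_of_pow_eq_one hc) (by norm_num)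
    have hle : cz ≤ O := le_sSup ⟨hn, hcop⟩
    exact ⟨(⟨c, hcH⟩ : H), hle (Subgroup.mem_zpowers _), rfl⟩

namespace Core

variable {z c : G} {W : Subgroup G} (C : Core z c W)
include C

theorem eq_one_of_inv_zpow {k : ℤ} (h : c ^ k * c ^ k = 1) : c ^ k = 1 := by
  refine eq_one_of_inv_self ?_ (inv_eq_of_mul_eq_one_right h)
  refine Odd.of_dvd_nat (n := 3) (by decide) (orderOf_dvd_of_pow_eq_one ?_)
  rw [← zpow_natCast, ← zpow_mul, mul_comm, zpow_mul, zpow_natCast, C.hc, one_zpow]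

/-- `N = ⟨c⟩` inside `W`. -/
def N (_C : Core z c W) : Subgroup W := (Subgroup.zpowers c).subgroupOf W

instance normal_N : C.N.Normal := by
  refine ⟨fun n hn k => ?_⟩
  obtain ⟨m, hm⟩ := Subgroup.mem_subgroupOf.1 hn
  have hm' : c ^ m = (n : G) := hm
  refine Subgroup.mem_subgroupOf.2 ⟨m, ?_⟩
  show c ^ m = (k : G) * n * (k : G)⁻¹
  rw [← hm', ((C.comm k k.2).zpow_right m).eq, mul_inv_cancel_right]

/-- `W/⟨c⟩`. -/
abbrev Q : Type u := W ⧸ C.N

theorem mk_eq_iff {a b : W} : (a : C.Q) = b ↔ ∃ k : ℤ, c ^ k = (a : G)⁻¹ * b := by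
  rw [QuotientGroup.eq]
  exact Iff.rfl

theorem z_conj_mem {r : G} (hr : r ∈ W) : z * r * z⁻¹ ∈ W :=
  C.norm z (Or.inl (by rw [C.hzc.eq, mul_inv_cancel_right])) r hr

theorem z_conj_twice (r : G) : z * (z * r * z⁻¹) * z⁻¹ = r := by
  rw [inv_of_two C.hz, show z * (z * r * z) * z = (z * z) * r * (z * z) by group, sq_eq_one_of C.hz, one_mul, mul_one]

theorem z_zpow (k : ℤ) : z * c ^ k * z⁻¹ = c ^ k := by
  rw [(C.hzc.zpow_right k).eq, mul_inv_cancel_right]

end Core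

/-- `C(z) ∩ W = ⟨c⟩`. -/
def Small (z c : G) (W : Subgroup G) : Prop := ∀ r ∈ W, Commute r z → r ∈ Subgroup.zpowers c

/-- An element normalising `⟨c⟩` and centralising `z`. -/
def Nb (z c g : G) : Prop := Commute g z ∧ (g * c * g⁻¹ = c ∨ g * c * g⁻¹ = c⁻¹)

namespace Core

variable {z c : G} {W : Subgroup G} (C : Core z c W) (S : Small z c W)
include C S

theorem exists_rep (q : C.Q) : ∃ r : W, (r : C.Q) = q ∧ z * (r : G) * z⁻¹ = (r : G)⁻¹ := by
  classical
  let fw : W → W := fun w => ⟨z * (w : G) * z⁻¹, C.z_conj_mem w.2⟩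
  let σ : C.Q → C.Q := Quotient.lift (fun w : W => ((fw w : W) : C.Q)) (by
    intro a b hab
    obtain ⟨k, hk⟩ := C.mk_eq_iff.1 (Quotient.sound hab : (a : C.Q) = b)
    refine C.mk_eq_iff.2 ⟨k, ?_⟩
    show c ^ k = (z * (a : G) * z⁻¹)⁻¹ * (z * (b : G) * z⁻¹)
    rw [← C.z_zpow k, hk]; group)
  have hσ : ∀ w : W, σ w = (fw w : W) := fun w => rfl
  let e : C.Q ≃* C.Q :=
    { toFun := σ
      invFun := σ
      left_inv := fun q => QuotientGroup.induction_on q fun w => by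
        rw [hσ, hσ]; exact congrArg _ (Subtype.ext (C.z_conj_twice w))
      right_inv := fun q => QuotientGroup.induction_on q fun w => by
        rw [hσ, hσ]; exact congrArg _ (Subtype.ext (C.z_conj_twice w))
      map_mul' := fun q q' => QuotientGroup.induction_on q fun a => QuotientGroup.induction_on q' fun b => by
        rw [← QuotientGroup.mk_mul, hσ, hσ, hσ, ← QuotientGroup.mk_mul]
        exact congrArg _ (Subtype.ext (show z * ((a : G) * b) * z⁻¹ = z * a * z⁻¹ * (z * b * z⁻¹) by group)) }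
  have hinv : ∀ q, e q = q⁻¹ := by
    refine inv_of_fixedPointFree e (fun q => e.left_inv q) fun q => QuotientGroup.induction_on q fun w hw => ?_
    obtain ⟨k, hk⟩ := C.mk_eq_iff.1 (show ((w : W) : C.Q) = (fw w : W) from hw.symm)
    have hk' : z * (w : G) * z⁻¹ = (w : G) * c ^ k := by rw [hk, mul_inv_cancel_left]
    have h2 : c ^ k * c ^ k = 1 := by
      have e2 := C.z_conj_twice (w : G)
      rw [hk', show z * ((w : G) * c ^ k) * z⁻¹ = z * (w : G) * z⁻¹ * (z * c ^ k * z⁻¹) by group, hk', C.z_zpow,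
        mul_assoc] at e2
      exact mul_eq_left.1 e2
    rw [C.eq_one_of_inv_zpow h2, mul_one, mul_inv_eq_iff_eq_mul] at hk'
    refine (QuotientGroup.eq_one_iff w).2 (Subgroup.mem_subgroupOf.2 ?_)
    exact S w w.2 hk'.symm
  obtain ⟨w, rfl⟩ := QuotientGroup.mk_surjective q
  have hu : ((w⁻¹ * fw w : W) : C.Q) = ((w : C.Q) * (w : C.Q))⁻¹ := by
    rw [QuotientGroup.mk_mul, QuotientGroup.mk_inv, show ((fw w : W) : C.Q) = e w from rfl, hinv, mul_inv_rev]
  obtain ⟨m, hm⟩ := C.odd w w.2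
  have hw1 : (w : C.Q) ^ (2 * m + 1) = 1 := by
    rw [← QuotientGroup.mk_pow, ← hm, show orderOf (w : G) = orderOf w from Subgroup.orderOf_coe w,
      pow_orderOf_eq_one, QuotientGroup.mk_one]
  refine ⟨(w⁻¹ * fw w)⁻¹ ^ (m + 1), ?_, ?_⟩
  · rw [QuotientGroup.mk_pow, QuotientGroup.mk_inv, hu, inv_inv, ← pow_two, ← pow_mul,
      show 2 * (m + 1) = 2 * m + 1 + 1 by omega, pow_succ, hw1, one_mul]
  · show z * ((((w : G)⁻¹ * (z * (w : G) * z⁻¹))⁻¹) ^ (m + 1)) * z⁻¹ = _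
    rw [← conj_pow]
    show _ = ((((w : G)⁻¹ * (z * (w : G) * z⁻¹))⁻¹) ^ (m + 1))⁻¹
    rw [← inv_pow, inv_inv]
    congr 1
    simp only [inv_of_two C.hz, mul_inv_rev, inv_inv]
    calc z * (z * ((w : G)⁻¹ * z) * (w : G)) * z = (z * z) * ((w : G)⁻¹ * (z * (w : G) * z)) := by group
      _ = _ := by rw [sq_eq_one_of C.hz, one_mul]

/-- The inverted representative. -/
noncomputable def rep (q : C.Q) : G := ((C.exists_rep S q).choose : G)

theorem rep_mem (q : C.Q) : C.rep S q ∈ W := (C.exists_rep S q).choose.2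

theorem rep_inv (q : C.Q) : z * C.rep S q * z⁻¹ = (C.rep S q)⁻¹ := (C.exists_rep S q).choose_spec.2

theorem mk_rep (q : C.Q) : ((⟨C.rep S q, C.rep_mem S q⟩ : W) : C.Q) = q := (C.exists_rep S q).choose_spec.1

theorem rep_odd (q : C.Q) : Odd (orderOf (C.rep S q)) := C.odd _ (C.rep_mem S q)

theorem rep_unique {r : G} (hr : r ∈ W) (hi : z * r * z⁻¹ = r⁻¹) :
    C.rep S ((⟨r, hr⟩ : W) : C.Q) = r := by
  set q : C.Q := ((⟨r, hr⟩ : W) : C.Q)
  obtain ⟨k, hk⟩ := C.mk_eq_iff.1 (C.mk_rep S q)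
  have hk' : r = C.rep S q * c ^ k := by rw [hk, mul_inv_cancel_left]
  have e : z * r * z⁻¹ = (C.rep S q)⁻¹ * c ^ k := by
    rw [hk', show z * (C.rep S q * c ^ k) * z⁻¹ = z * C.rep S q * z⁻¹ * (z * c ^ k * z⁻¹) by group, C.rep_inv,
      C.z_zpow]
  rw [hi, hk', mul_inv_rev, (((C.comm _ (C.rep_mem S q)).zpow_right k).inv_left).eq] at e
  have h2 : c ^ k * c ^ k = 1 := by
    have := mul_right_cancel e
    nth_rw 1 [← this]
    exact inv_mul_cancel _
  rw [hk', C.eq_one_of_inv_zpow h2, mul_one]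

theorem rep_injective : Function.Injective (C.rep S) := fun a b e => by
  rw [← C.mk_rep S a, ← C.mk_rep S b]
  exact congrArg _ (Subtype.ext e)

theorem rep_eq_one {q : C.Q} (h : C.rep S q = 1) : q = 1 := by
  rw [← C.mk_rep S q]
  exact congrArg _ (Subtype.ext h)

theorem rep_one : C.rep S 1 = 1 := by
  have := C.rep_unique S W.one_mem (by simp)
  exact this

theorem rep_pow (q : C.Q) (n : ℕ) : C.rep S (q ^ n) = C.rep S q ^ n := by
  have h : z * C.rep S q ^ n * z⁻¹ = (C.rep S q ^ n)⁻¹ := by rw [← conj_pow, C.rep_inv, inv_pow]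
  rw [← C.rep_unique S (W.pow_mem (C.rep_mem S q) n) h]
  congr 1
  rw [show (⟨C.rep S q ^ n, _⟩ : W) = (⟨C.rep S q, C.rep_mem S q⟩ : W) ^ n from Subtype.ext rfl,
    QuotientGroup.mk_pow, C.mk_rep]

theorem mul_comm_Q (a b : C.Q) : a * b = b * a := by
  have key : ∀ q : C.Q, ∃ w : W, (w : C.Q) = q ∧
      ((⟨z * (w : G) * z⁻¹, C.z_conj_mem w.2⟩ : W) : C.Q) = q⁻¹ := by
    intro q
    refine ⟨⟨C.rep S q, C.rep_mem S q⟩, C.mk_rep S q, ?_⟩
    rw [show (⟨z * C.rep S q * z⁻¹, _⟩ : W) = (⟨C.rep S q, C.rep_mem S q⟩ : W)⁻¹ from Subtype.ext (C.rep_inv S q),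
      QuotientGroup.mk_inv, C.mk_rep]
  obtain ⟨p, hp, hp'⟩ := key a
  obtain ⟨q, hq, hq'⟩ := key b
  -- the map `w ↦ z w z⁻¹` inverts everything
  obtain ⟨r, hr, hr'⟩ := key (a * b)
  obtain ⟨k, hk⟩ := C.mk_eq_iff.1 (show ((r : W) : C.Q) = ((p * q : W) : C.Q) by rw [hr, QuotientGroup.mk_mul, hp, hq])
  have e : ((⟨z * (r : G) * z⁻¹, C.z_conj_mem r.2⟩ : W) : C.Q) =
      (((⟨z * (p : G) * z⁻¹, C.z_conj_mem p.2⟩ : W) * ⟨z * (q : G) * z⁻¹, C.z_conj_mem q.2⟩ : W) : C.Q) := by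
    refine C.mk_eq_iff.2 ⟨k, ?_⟩
    show c ^ k = (z * (r : G) * z⁻¹)⁻¹ * (z * (p : G) * z⁻¹ * (z * (q : G) * z⁻¹))
    rw [← C.z_zpow k, hk, Subgroup.coe_mul]; group
  rw [QuotientGroup.mk_mul, hr', hp', hq', ← mul_inv_rev, inv_inj] at e
  exact e

/-- `W/⟨c⟩` is abelian. -/
abbrev commQ : CommGroup C.Q := { (inferInstance : Group C.Q) with mul_comm := C.mul_comm_Q S }

theorem nb_mem {g : G} (hg : Nb z c g) {r : G} (hr : r ∈ W) : g * r * g⁻¹ ∈ W := C.norm g hg.2 r hr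

theorem nb_inv {g : G} (hg : Nb z c g) (q : C.Q) :
    z * (g * C.rep S q * g⁻¹) * z⁻¹ = (g * C.rep S q * g⁻¹)⁻¹ := by
  have e : z * g = g * z := hg.1.eq.symm
  have e' : g⁻¹ * z⁻¹ = z⁻¹ * g⁻¹ := by rw [← mul_inv_rev, e, mul_inv_rev]
  calc z * (g * C.rep S q * g⁻¹) * z⁻¹ = z * g * C.rep S q * (g⁻¹ * z⁻¹) := by group
    _ = g * (z * C.rep S q * z⁻¹) * g⁻¹ := by rw [e, e']; group
    _ = _ := by rw [C.rep_inv]; group

/-- The action of a normalising element. -/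
noncomputable def act (g : G) (hg : Nb z c g) : MulAut C.Q where
  toFun q := ((⟨g * C.rep S q * g⁻¹, C.nb_mem S hg (C.rep_mem S q)⟩ : W) : C.Q)
  invFun q := ((⟨g⁻¹ * C.rep S q * g, by
    have h : g⁻¹ * c * g = c ∨ g⁻¹ * c * g = c⁻¹ := by
      rcases hg.2 with h | h
      · exact Or.inl (by nth_rw 1 [← h]; group)
      · exact Or.inr (by
          have : c = (g⁻¹ * c⁻¹ * g) := by rw [← h]; group
          nth_rw 2 [this]; group)
    simpa using C.norm g⁻¹ (by simpa using h) _ (C.rep_mem S q)⟩ : W) : C.Q)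
  left_inv q := by
    show _ = q
    conv_rhs => rw [← C.mk_rep S q]
    refine congrArg _ (Subtype.ext ?_)
    show g⁻¹ * C.rep S _ * g = C.rep S q
    rw [C.rep_unique S _ (C.nb_inv S hg q)]; group
  right_inv q := by
    show _ = q
    conv_rhs => rw [← C.mk_rep S q]
    refine congrArg _ (Subtype.ext ?_)
    show g * C.rep S _ * g⁻¹ = C.rep S q
    rw [C.rep_unique S]
    · group
    · have e : z * g⁻¹ = g⁻¹ * z := hg.1.inv_left.eq.symm
      have e' : g * z⁻¹ = z⁻¹ * g := hg.1.inv_right.eq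
      calc z * (g⁻¹ * C.rep S q * g) * z⁻¹ = z * g⁻¹ * C.rep S q * (g * z⁻¹) := by group
        _ = g⁻¹ * (z * C.rep S q * z⁻¹) * g := by rw [e, e']; group
        _ = _ := by rw [C.rep_inv]; group
  map_mul' a b := by
    have h0 : ((⟨C.rep S (a * b), C.rep_mem S _⟩ : W) : C.Q) =
        ((⟨C.rep S a, C.rep_mem S a⟩ * ⟨C.rep S b, C.rep_mem S b⟩ : W) : C.Q) := by
      rw [QuotientGroup.mk_mul, C.mk_rep, C.mk_rep, C.mk_rep]
    obtain ⟨k, hk⟩ := C.mk_eq_iff.1 h0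
    rw [← QuotientGroup.mk_mul]
    have hc' : ∃ j : ℤ, g * c ^ k * g⁻¹ = c ^ j := by
      rcases hg.2 with h | h
      · exact ⟨k, by rw [← conj_zpow, h]⟩
      · exact ⟨-k, by rw [← conj_zpow, h, inv_zpow']⟩
    obtain ⟨j, hj⟩ := hc'
    refine C.mk_eq_iff.2 ⟨j, ?_⟩
    show c ^ j = (g * C.rep S (a * b) * g⁻¹)⁻¹ * (g * C.rep S a * g⁻¹ * (g * C.rep S b * g⁻¹))
    rw [← hj, hk, Subgroup.coe_mul]; group

theorem rep_act {g : G} (hg : Nb z c g) (q : C.Q) : C.rep S (C.act S g hg q) = g * C.rep S q * g⁻¹ :=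
  C.rep_unique S _ (C.nb_inv S hg q)

theorem act_eq_self {g : G} (hg : Nb z c g) (q : C.Q) : C.act S g hg q = q ↔ Commute g (C.rep S q) := by
  constructor
  · intro h
    have e := C.rep_act S hg q
    rw [h] at e
    exact (eq_mul_inv_iff_mul_eq.1 e).symm
  · intro h
    apply C.rep_injective S
    rw [C.rep_act, h.eq, mul_inv_cancel_right]

end Core

end H33.TwoAn
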