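import Cfsg.Agent.H33.TwoAn.Split

/-!
Degrees nine and ten: the inverted parts of the centralisers of `⟨b,x⟩`, `⟨y,d⟩` and `⟨b,x,y⟩` and their orders.
-/

set_option autoImplicit false
set_option linter.unusedSectionVars false
set_option linter.style.haveILetI false

namespace H33.TwoAn

universe u

variable {G : Type u} [Group G] [Finite G] (K : Cfg G)

namespace Cfg

/-- `d = x b`. -/
def d : G := K.x * K.b

/-- `e = x b⁻¹`. -/
def e : G := K.x * K.b⁻¹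

/-- `A = ⟨b, x, y⟩`. -/
def A : Subgroup G := Subgroup.closure ({K.b, K.x, K.y} : Set G)

theorem tinv : K.t⁻¹ = K.t := inv_of_two K.ht

theorem zinv : K.z⁻¹ = K.z := inv_of_two K.hz

theorem t_x : K.t * K.x * K.t⁻¹ = K.b := by
  rw [← K.t_b, K.tinv]
  calc K.t * (K.t * K.b * K.t) * K.t = (K.t * K.t) * K.b * (K.t * K.t) := by group
    _ = K.b := by rw [sq_eq_one_of K.ht, one_mul, mul_one]

theorem t_d : K.t * K.d * K.t⁻¹ = K.d := by
  rw [d, show K.t * (K.x * K.b) * K.t⁻¹ = K.t * K.x * K.t⁻¹ * (K.t * K.b * K.t⁻¹) by group, K.t_x, K.t_b]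
  exact K.hbx.eq

theorem t_e : K.t * K.e * K.t⁻¹ = K.e⁻¹ := by
  rw [e, show K.t * (K.x * K.b⁻¹) * K.t⁻¹ = K.t * K.x * K.t⁻¹ * (K.t * K.b * K.t⁻¹)⁻¹ by group, K.t_x, K.t_b,
    mul_inv_rev, inv_inv]

theorem td : Commute K.t K.d := mul_inv_eq_iff_eq_mul.1 K.t_d

theorem h_d : K.h * K.d * K.h⁻¹ = K.d⁻¹ := by
  rw [d, show K.h * (K.x * K.b) * K.h⁻¹ = K.h * K.x * K.h⁻¹ * (K.h * K.b * K.h⁻¹) by group, K.h_x, K.h_b,
    mul_inv_rev]

theorem h_e : K.h * K.e * K.h⁻¹ = K.e := by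
  rw [e, show K.h * (K.x * K.b⁻¹) * K.h⁻¹ = K.h * K.x * K.h⁻¹ * (K.h * K.b * K.h⁻¹)⁻¹ by group, K.h_x, K.h_b,
    inv_inv]
  exact K.hbx.inv_left.eq

theorem h_tz : K.h * (K.t * K.z) * K.h⁻¹ = K.t := by
  rw [show K.h * (K.t * K.z) * K.h⁻¹ = K.h * K.t * K.h⁻¹ * (K.h * K.z * K.h⁻¹) by group, K.h_t, K.hzh.symm.eq,
    mul_inv_cancel_right, mul_assoc, sq_eq_one_of K.hz, mul_one]

theorem s_d : K.s * K.d * K.s⁻¹ = K.x * K.y := by
  rw [d, show K.s * (K.x * K.b) * K.s⁻¹ = K.s * K.x * K.s⁻¹ * (K.s * K.b * K.s⁻¹) by group, K.s_x, K.s_b]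
  exact K.hxy.symm.eq

theorem hzd : Commute K.z K.d := K.hzx.mul_right K.hzb
theorem hze : Commute K.z K.e := K.hzx.mul_right K.hzb.inv_right
theorem hde : Commute K.d K.e :=
  ((Commute.refl K.x).mul_right K.hbx.symm.inv_right).mul_left (K.hbx.mul_right (Commute.refl K.b).inv_right)
theorem hdy : Commute K.d K.y := K.hxy.mul_left K.hby
theorem hey : Commute K.e K.y := K.hxy.mul_left K.hby.inv_left

theorem d3 : K.d ^ 3 = 1 := by rw [d, K.hbx.symm.mul_pow, K.hx, K.hb, one_mul]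
theorem e3 : K.e ^ 3 = 1 := by rw [e, K.hbx.symm.inv_right.mul_pow, K.hx, inv_pow, K.hb, inv_one, one_mul]

theorem x_mem : K.x ∈ K.A := Subgroup.subset_closure (by simp)
theorem b_mem : K.b ∈ K.A := Subgroup.subset_closure (by simp)
theorem y_mem : K.y ∈ K.A := Subgroup.subset_closure (by simp)
theorem d_mem : K.d ∈ K.A := K.A.mul_mem K.x_mem K.b_mem
theorem e_mem : K.e ∈ K.A := K.A.mul_mem K.x_mem (K.A.inv_mem K.b_mem)

theorem commute_A {g r : G} (hb : Commute g K.b) (hx : Commute g K.x) (hy : Commute g K.y) (hr : r ∈ K.A) :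
    Commute g r := by
  induction hr using Subgroup.closure_induction with
  | mem a ha =>
    simp only [Set.mem_insert_iff, Set.mem_singleton_iff] at ha
    rcases ha with rfl | rfl | rfl
    · exact hb
    · exact hx
    · exact hy
  | one => exact Commute.one_right g
  | mul a b _ _ ha hb => exact ha.mul_right hb
  | inv a _ ha => exact ha.inv_right

theorem A_comm {r r' : G} (hr : r ∈ K.A) (hr' : r' ∈ K.A) : Commute r r' := by
  have h : ∀ a ∈ ({K.b, K.x, K.y} : Set G), Commute r a := by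
    intro a ha
    refine (K.commute_A (g := a) ?_ ?_ ?_ hr).symm <;>
    · simp only [Set.mem_insert_iff, Set.mem_singleton_iff] at ha
      rcases ha with rfl | rfl | rfl <;>
        first
          | exact Commute.refl _
          | exact K.hbx
          | exact K.hby
          | exact K.hxy
          | exact K.hbx.symm
          | exact K.hby.symm
          | exact K.hxy.symm
  exact K.commute_A (h _ (by simp)) (h _ (by simp)) (h _ (by simp)) hr'

theorem A_z {r : G} (hr : r ∈ K.A) : Commute K.z r := K.commute_A K.hzb K.hzx K.hzy hr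

theorem A_odd {r : G} (hr : r ∈ K.A) : Odd (orderOf r) :=
  Odd.of_dvd_nat (n := 27) (by decide) (K.indep ▸ Subgroup.orderOf_mk r hr ▸ orderOf_dvd_natCard _)

theorem mem_A_exists {r : G} (hr : r ∈ K.A) :
    ∃ i j k : Fin 3, r = K.b ^ (i : ℕ) * K.x ^ (j : ℕ) * K.y ^ (k : ℕ) := by
  have red : ∀ (a : G), a ^ 3 = 1 → ∀ n : ℕ, a ^ n = a ^ (n % 3) := fun a ha n => by
    conv_lhs => rw [← Nat.div_add_mod n 3, pow_add, pow_mul, ha, one_pow, one_mul]
  suffices h : ∃ i j k : ℕ, r = K.b ^ i * K.x ^ j * K.y ^ k by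
    obtain ⟨i, j, k, rfl⟩ := h
    exact ⟨⟨i % 3, Nat.mod_lt _ (by norm_num)⟩, ⟨j % 3, Nat.mod_lt _ (by norm_num)⟩,
      ⟨k % 3, Nat.mod_lt _ (by norm_num)⟩, by rw [← red _ K.hb, ← red _ K.hx, ← red _ K.hy]⟩
  induction hr using Subgroup.closure_induction with
  | mem a ha =>
    simp only [Set.mem_insert_iff, Set.mem_singleton_iff] at ha
    rcases ha with rfl | rfl | rfl
    · exact ⟨1, 0, 0, by simp⟩
    · exact ⟨0, 1, 0, by simp⟩
    · exact ⟨0, 0, 1, by simp⟩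
  | one => exact ⟨0, 0, 0, by simp⟩
  | mul a b ha hb iha ihb =>
    obtain ⟨i, j, k, rfl⟩ := iha
    obtain ⟨i', j', k', rfl⟩ := ihb
    refine ⟨i + i', j + j', k + k', ?_⟩
    rw [pow_add, pow_add, pow_add]
    calc _ = K.b ^ i * K.x ^ j * (K.y ^ k * (K.b ^ i' * K.x ^ j')) * K.y ^ k' := by group
      _ = K.b ^ i * K.x ^ j * ((K.b ^ i' * K.x ^ j') * K.y ^ k) * K.y ^ k' := by
        rw [((K.hby.symm.pow_pow k i').mul_right (K.hxy.symm.pow_pow k j')).eq]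
      _ = K.b ^ i * (K.x ^ j * K.b ^ i') * K.x ^ j' * (K.y ^ k * K.y ^ k') := by group
      _ = K.b ^ i * (K.b ^ i' * K.x ^ j) * K.x ^ j' * (K.y ^ k * K.y ^ k') := by rw [(K.hbx.symm.pow_pow j i').eq]
      _ = _ := by group
  | inv a ha iha =>
    obtain ⟨i, j, k, rfl⟩ := iha
    refine ⟨2 * i, 2 * j, 2 * k, inv_eq_of_mul_eq_one_right ?_⟩
    have e : ∀ (a : G), a ^ 3 = 1 → ∀ n, a ^ n * a ^ (2 * n) = 1 := fun a ha n => by
      rw [← pow_add, show n + 2 * n = 3 * n by ring, pow_mul, ha, one_pow]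
    calc _ = K.b ^ i * K.x ^ j * (K.y ^ k * (K.b ^ (2 * i) * K.x ^ (2 * j))) * K.y ^ (2 * k) := by group
      _ = K.b ^ i * K.x ^ j * ((K.b ^ (2 * i) * K.x ^ (2 * j)) * K.y ^ k) * K.y ^ (2 * k) := by
        rw [((K.hby.symm.pow_pow k (2 * i)).mul_right (K.hxy.symm.pow_pow k (2 * j))).eq]
      _ = K.b ^ i * (K.x ^ j * K.b ^ (2 * i)) * K.x ^ (2 * j) * (K.y ^ k * K.y ^ (2 * k)) := by group
      _ = (K.b ^ i * K.b ^ (2 * i)) * (K.x ^ j * K.x ^ (2 * j)) * (K.y ^ k * K.y ^ (2 * k)) := by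
        rw [(K.hbx.symm.pow_pow j (2 * i)).eq]; group
      _ = 1 := by rw [e _ K.hb, e _ K.hx, e _ K.hy, one_mul, one_mul]

theorem exps_inj {i j k i' j' k' : Fin 3}
    (h : K.b ^ (i : ℕ) * K.x ^ (j : ℕ) * K.y ^ (k : ℕ) = K.b ^ (i' : ℕ) * K.x ^ (j' : ℕ) * K.y ^ (k' : ℕ)) :
    i = i' ∧ j = j' ∧ k = k' := by
  have hm : ∀ p : Fin 3 × Fin 3 × Fin 3, K.b ^ (p.1 : ℕ) * K.x ^ (p.2.1 : ℕ) * K.y ^ (p.2.2 : ℕ) ∈ K.A := fun p =>
    K.A.mul_mem (K.A.mul_mem (K.A.pow_mem K.b_mem _) (K.A.pow_mem K.x_mem _)) (K.A.pow_mem K.y_mem _)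
  let f : Fin 3 × Fin 3 × Fin 3 → K.A := fun p => ⟨_, hm p⟩
  have hs : Function.Surjective f := fun r => by
    obtain ⟨i, j, k, e⟩ := K.mem_A_exists r.2
    exact ⟨(i, j, k), Subtype.ext e.symm⟩
  haveI : Fintype K.A := Fintype.ofFinite _
  have hbij : Function.Bijective f := (Fintype.bijective_iff_surjective_and_card f).2 ⟨hs, by
    rw [← Nat.card_eq_fintype_card (α := K.A), show Nat.card K.A = 27 from K.indep]; simp⟩
  have := hbij.1 (a₁ := (i, j, k)) (a₂ := (i', j', k')) (Subtype.ext h)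
  simp only [Prod.mk.injEq] at this
  exact this

theorem d_ne_one : K.d ≠ 1 := fun h => by
  have := K.exps_inj (i := 1) (j := 1) (k := 0) (i' := 0) (j' := 0) (k' := 0)
    (by simpa [d, K.hbx.eq] using h)
  exact absurd this.1 (by decide)

/-- Odd, inverted by `z`. -/
def Inv (r : G) : Prop := Odd (orderOf r) ∧ K.z * r * K.z⁻¹ = r⁻¹

theorem inv_eq_one {r : G} (h : K.Inv r) (hc : Commute K.z r) : r = 1 := eq_one_of_inv_comm h.1 h.2 hc

theorem inv_conj {r g : G} (hg : Commute g K.z) (h : K.Inv r) : K.Inv (g * r * g⁻¹) := by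
  refine ⟨odd_orderOf_conj g h.1, ?_⟩
  have e : K.z * g = g * K.z := hg.eq.symm
  have e' : g⁻¹ * K.z⁻¹ = K.z⁻¹ * g⁻¹ := by rw [← mul_inv_rev, e, mul_inv_rev]
  calc K.z * (g * r * g⁻¹) * K.z⁻¹ = K.z * g * r * (g⁻¹ * K.z⁻¹) := by group
    _ = g * (K.z * r * K.z⁻¹) * g⁻¹ := by rw [e, e']; group
    _ = _ := by rw [h.2]; group

/-- An element `g` with `g z g⁻¹ = t`, `g d g⁻¹ = d`. -/
def IsFuse (i g : G) : Prop := g * K.z * g⁻¹ = i ∧ g * K.d * g⁻¹ = K.d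

theorem pull_comm {i g r : G} (hg : K.IsFuse i g) (hi : Commute r i) (hd : Commute r K.d) :
    Commute (g⁻¹ * r * g) K.z ∧ Commute (g⁻¹ * r * g) K.d := by
  have h1 := commute_conj g⁻¹ hi
  have h2 := commute_conj g⁻¹ hd
  rw [inv_inv] at h1 h2
  constructor
  · convert h1 using 1
    rw [← hg.1]; group
  · convert h2 using 1
    nth_rw 2 [← hg.2]
    group

theorem push_comm {i g r : G} (hg : K.IsFuse i g) (hi : Commute r K.z) (hd : Commute r K.d) :
    Commute (g * r * g⁻¹) i ∧ Commute (g * r * g⁻¹) K.d :=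
  ⟨hg.1 ▸ commute_conj g hi, by have := commute_conj g hd; rwa [hg.2] at this⟩

theorem transported {i g : G} (hg : K.IsFuse i g) (S : Subgroup G) (hodd : ∀ r ∈ S, Odd (orderOf r))
    (hS : ∀ r ∈ S, Commute r i ∧ Commute r K.d) :
    Nat.card S ∣ 27 ∧ (∀ r ∈ S, r ^ 3 = 1) ∧ ∀ r ∈ S, ∀ r' ∈ S, Commute r r' := by
  let S' : Subgroup G := S.map (MulAut.conj g⁻¹).toMonoidHom
  have hcard : Nat.card S' = Nat.card S := Subgroup.card_map_of_injective (MulAut.conj g⁻¹).injective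
  have hodd' : Odd (Nat.card S') := by
    rw [hcard, Nat.odd_iff]
    by_contra h
    have h2 : 2 ∣ Nat.card S := by omega
    haveI : Fact (Nat.Prime 2) := ⟨Nat.prime_two⟩
    obtain ⟨r, hr⟩ := exists_prime_orderOf_dvd_card' (G := S) 2 h2
    have := hodd r r.2
    rw [Subgroup.orderOf_coe, hr] at this
    exact absurd this (by decide)
  have key := K.odd_d S' hodd' (by
    rintro r ⟨r₀, hr₀, rfl⟩
    have := K.pull_comm hg (hS r₀ hr₀).1 (hS r₀ hr₀).2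
    simpa [MulAut.conj_apply, d] using this)
  refine ⟨hcard ▸ key.1, fun r hr => ?_, fun r hr r' hr' => ?_⟩
  · have := key.2.1 _ ⟨r, hr, rfl⟩
    exact (MulAut.conj g⁻¹).injective (by rw [map_pow, map_one]; exact this)
  · have := key.2.2 _ ⟨r, hr, rfl⟩ _ ⟨r', hr', rfl⟩
    exact (MulAut.conj g⁻¹).injective (by rw [map_mul, map_mul]; exact this.eq)

theorem odd_zpowers_d {r : G} (hr : r ∈ Subgroup.zpowers K.d) : Odd (orderOf r) :=
  Odd.of_dvd_nat (n := 3) (by decide)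
    ((Subgroup.orderOf_mk r hr ▸ orderOf_dvd_natCard _).trans
      (by rw [Nat.card_zpowers]; exact orderOf_dvd_of_pow_eq_one K.d3))

theorem card_zpowers_d : Nat.card (Subgroup.zpowers K.d) = 3 := by
  haveI : Fact (Nat.Prime 3) := ⟨Nat.prime_three⟩
  rw [Nat.card_zpowers, orderOf_eq_prime K.d3 K.d_ne_one]

/-- An inverted subgroup commuting with an involution `i` conjugate to `z` and with `d`. -/
theorem small_inverted {i g : G} (hg : K.IsFuse i g) (P : Subgroup G) (hP : ∀ r ∈ P, K.Inv r)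
    (hPc : ∀ r ∈ P, Commute r i ∧ Commute r K.d) (hcomm : ∀ r ∈ P, ∀ r' ∈ P, Commute r r')
    (hid : Commute K.d i) :
    Nat.card ↥(P ⊔ Subgroup.zpowers K.d) = Nat.card P * 3 ∧ Nat.card P ∣ 9 ∧ (∀ r ∈ P, r ^ 3 = 1) ∧
      (∀ r ∈ P ⊔ Subgroup.zpowers K.d, Odd (orderOf r) ∧ Commute r i ∧ Commute r K.d) := by
  have hcd : ∀ a ∈ P, ∀ b ∈ Subgroup.zpowers K.d, Commute a b := by
    rintro a ha _ ⟨m, rfl⟩
    exact (hPc a ha).2.zpow_right m
  have hdis : P ⊓ Subgroup.zpowers K.d = ⊥ := by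
    rw [Subgroup.eq_bot_iff_forall]
    rintro r ⟨hr, m, rfl⟩
    exact K.inv_eq_one (hP _ hr) (K.hzd.zpow_right m)
  have hcard := card_sup_disjoint P (Subgroup.zpowers K.d) hcd hdis
  rw [K.card_zpowers_d] at hcard
  have hmem : ∀ r ∈ P ⊔ Subgroup.zpowers K.d, Odd (orderOf r) ∧ Commute r i ∧ Commute r K.d := by
    intro r hr
    have hr' : r ∈ (MonoidHom.noncommCoprod P.subtype (Subgroup.zpowers K.d).subtype
        fun a b => hcd a a.2 b b.2).range := by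
      refine (SetLike.ext_iff.1 (MonoidHom.noncommCoprod_range _ _ _) r).2 ?_
      rw [Subgroup.range_subtype, Subgroup.range_subtype]
      exact hr
    obtain ⟨⟨a, b⟩, hab⟩ := hr'
    have hsub : ∃ a ∈ P, ∃ b ∈ Subgroup.zpowers K.d, r = a * b := ⟨a, a.2, b, b.2, hab.symm⟩
    obtain ⟨a, ha, b, ⟨m, rfl⟩, rfl⟩ := hsub
    refine ⟨?_, (hPc a ha).1.mul_left (hid.zpow_left m), (hPc a ha).2.mul_left ((Commute.refl K.d).zpow_left m)⟩
    exact Odd.of_dvd_nat ((hP a ha).1.mul (K.odd_zpowers_d ⟨m, rfl⟩))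
      ((hcd a ha _ ⟨m, rfl⟩).orderOf_mul_dvd_mul_orderOf)
  obtain ⟨h27, hcube, -⟩ := K.transported hg _ (fun r hr => (hmem r hr).1) fun r hr => (hmem r hr).2
  refine ⟨hcard, ?_, fun r hr => hcube r (Subgroup.mem_sup_left hr), hmem⟩
  rw [hcard] at h27
  exact Nat.dvd_of_mul_dvd_mul_right (by norm_num) h27

end Cfg

end H33.TwoAn
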