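import Cfsg.Agent.H33.TwoAn.LocalQ

/-!
Degrees nine and ten: consequences of the fixed point inequalities.
-/

set_option autoImplicit false
set_option linter.unusedSectionVars false

namespace H33.TwoAn

universe u

variable {G : Type u} [Group G] [Finite G] {K : Cfg G}

namespace Ctx

variable (X : Ctx K)

/-- If `W = ⟨b⟩` then `C(b) ≤ C(z)`. -/
theorem conclude (hV : ∀ q : X.V, q = 1) (g : G) (hg : Commute g K.b) : Commute g K.z := by
  set r := K.z * g * K.z⁻¹ * g⁻¹ with hr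
  have hmem : r ∈ X.W := X.core.brk g hg
  have hi : K.z * r * K.z⁻¹ = r⁻¹ := by
    rw [hr, K.zinv, mul_inv_rev, mul_inv_rev, mul_inv_rev, K.zinv, inv_inv]
    calc K.z * (K.z * g * K.z * g⁻¹) * K.z = (K.z * K.z) * (g * K.z * g⁻¹ * K.z) := by group
      _ = _ := by rw [sq_eq_one_of K.hz, one_mul]; group
  obtain ⟨q, hq⟩ := X.rp_of ⟨X.core.odd r hmem, hi⟩ (X.core.comm r hmem)
  rw [hV q] at hq
  have h1 : r = 1 := by rw [← hq]; exact X.core.rep_one X.small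
  rw [hr, mul_inv_eq_one, mul_inv_eq_iff_eq_mul] at h1
  exact h1.symm

theorem card_fix_ax : Nat.card (fixG X.ax) = Nat.card X.P1 := by
  refine Nat.card_congr (Equiv.ofBijective
    (fun q : fixG X.ax => (⟨X.rp q,
      X.mem_P1.2 ⟨X.rp_Inv q, X.rp_b q, ((X.mem_fix X.rp_ax _).1 q.2).symm⟩⟩ : X.P1)) ⟨?_, ?_⟩)
  · intro a b e
    exact Subtype.ext (X.rp_inj (congrArg (fun r : X.P1 => (r : G)) e))
  · intro r
    obtain ⟨hi, hb, hx⟩ := X.mem_P1.1 r.2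
    obtain ⟨q, hq⟩ := X.rp_of hi hb
    exact ⟨⟨q, (X.mem_fix X.rp_ax q).2 (by rw [hq]; exact hx.symm)⟩, Subtype.ext hq⟩

theorem card_fix_axy : Nat.card (fixG (X.ax * X.ay)) = Nat.card X.P2 ^ 2 := by
  rw [card_split (fixG (X.ax * X.ay)) (fun q hq => ?_) (fun a _ b _ => mul_comm a b) X.τ X.η
    (fun q hq => X.τ_stable hq) (fun q hq => X.η_stable hq) (fun q _ => X.τ_twice q) (fun q _ => X.ητ q)]
  · congr 1
    refine Nat.card_congr (Equiv.ofBijective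
      (fun q : ↥(fixG (X.ax * X.ay) ⊓ fixE X.τ) => (⟨K.s⁻¹ * X.rp q * K.s,
        (X.fix_part_P2 q).1 ⟨q.2.1, q.2.2⟩⟩ : X.P2)) ⟨?_, ?_⟩)
    · intro a b e
      have e' := congrArg Subtype.val e
      exact Subtype.ext (X.rp_inj (mul_left_cancel (mul_right_cancel e')))
    · intro r
      obtain ⟨hi, hy, -, -⟩ := X.mem_P2.1 r.2
      have hb : Commute (K.s * r * K.s⁻¹) K.b := by
        have := commute_conj K.s hy
        rwa [K.s_y] at this
      obtain ⟨q, hq⟩ := X.rp_of (K.inv_conj K.hzs.symm hi) hb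
      have e : K.s⁻¹ * X.rp q * K.s = r := by rw [hq]; group
      have hm := (X.fix_part_P2 q).2 (by rw [e]; exact r.2)
      exact ⟨⟨q, hm.1, hm.2⟩, Subtype.ext e⟩
  · exact Odd.of_dvd_nat (n := 3) (by decide) (orderOf_dvd_of_pow_eq_one (X.fix_axy_cube q hq))

theorem pow_nine (q : X.V) : q ^ 9 = 1 :=
  X.pair.pow_nine X.fix_ax_cube X.fix_ay_cube X.fix_axy_cube X.fix_axy'_cube q

/-- An element of `W` fixed by two conjugates generating a subgroup through `z` is trivial. -/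
theorem disjoint_conj (u : G) (hu : Commute u K.z) (hub : Commute u K.b) (f : MulAut X.V)
    (hf : ∀ q, X.rp (f q) = u * X.rp q * u⁻¹)
    (hgen : ∃ v : G, Commute v K.z ∧ Commute v K.b ∧ (u⁻¹ * (v * u * v⁻¹)) ^ 2 = K.z) :
    ∃ γ : MulAut X.V, ∀ q, f q = q → (γ * f * γ⁻¹) q = q → q = 1 := by
  obtain ⟨v, hv, hvb, hw⟩ := hgen
  refine ⟨X.av v (nb_of_commute hv hvb), fun q h1 h2 => X.rp_eq_one (K.inv_eq_one (X.rp_Inv q) ?_)⟩
  have e1 : Commute u (X.rp q) := (X.mem_fix hf q).1 h1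
  have e2 : Commute (v * u * v⁻¹) (X.rp q) := by
    refine (X.mem_fix (fun p => ?_) q).1 h2
    have hv' : ∀ p, X.rp ((X.av v (nb_of_commute hv hvb))⁻¹ p) = v⁻¹ * X.rp p * v := fun p => by
      have := X.rp_av (nb_of_commute hv hvb) ((X.av v (nb_of_commute hv hvb))⁻¹ p)
      rw [MulAut.apply_inv_self] at this
      rw [this]; group
    rw [MulAut.mul_apply, MulAut.mul_apply, X.rp_av, hf, hv']
    group
  rw [← hw]
  exact (e1.inv_left.mul_left e2).pow_left 2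

theorem ineq_one : Nat.card X.P1 ^ 2 ≤ (Nat.card X.P2 ^ 2) ^ 3 := by
  obtain ⟨γ, hγ⟩ := X.disjoint_conj K.x K.hzx.symm K.hbx.symm X.ax X.rp_ax K.gen_x
  have h1 := sq_le_card_cubeG γ hγ
  have h2 := card_cubeG_le (α := X.ax * X.ay) (by
    rw [Commute.mul_pow X.pair.comm, X.pair.a3, X.pair.b3, one_mul])
  rw [inf_eq_left.2 (fun q hq => mem_cubeG.2 (X.fix_ax_cube q hq)), X.card_fix_ax] at h1
  rw [inf_eq_left.2 (fun q hq => mem_cubeG.2 (X.fix_axy_cube q hq)), X.card_fix_axy] at h2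
  exact h1.trans h2

theorem ineq_two : (Nat.card X.P2 ^ 2) ^ 2 ≤ Nat.card X.P1 ^ 3 := by
  obtain ⟨γ, hγ⟩ := X.disjoint_conj (K.x * K.y) (K.hzx.symm.mul_left K.hzy.symm) (K.hbx.symm.mul_left K.hby.symm)
    (X.ax * X.ay) X.rp_axy K.gen_xy
  have h1 := sq_le_card_cubeG γ hγ
  have h2 := card_cubeG_le (α := X.ax) X.pair.a3
  rw [inf_eq_left.2 (fun q hq => mem_cubeG.2 (X.fix_axy_cube q hq)), X.card_fix_axy] at h1
  rw [inf_eq_left.2 (fun q hq => mem_cubeG.2 (X.fix_ax_cube q hq)), X.card_fix_ax] at h2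
  exact h1.trans h2

/-- If `W ≠ ⟨b⟩` then something inverted commutes with `b, x, y`. -/
theorem PR_ne {q : X.V} (hq : q ≠ 1) : Nat.card X.PR ≠ 1 := by
  obtain ⟨v, hv, hv1⟩ : ∃ v : X.V, v ^ 3 = 1 ∧ v ≠ 1 := by
    by_cases h : q ^ 3 = 1
    · exact ⟨q, h, hq⟩
    · exact ⟨q ^ 3, by rw [← pow_mul]; exact X.pow_nine q, h⟩
  obtain ⟨w, -, hw1, hwx, hwy⟩ := X.pair.exists_common hv hv1
  intro h
  refine hw1 (X.rp_eq_one ?_)
  have hm : X.rp w ∈ X.PR := X.mem_PR.2 ⟨X.rp_Inv w, X.rp_b w, ((X.mem_fix X.rp_ax w).1 hwx).symm,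
    ((X.mem_fix X.rp_ay w).1 hwy).symm⟩
  rw [Subgroup.card_eq_one.1 h] at hm
  exact hm

theorem card_cases : (Nat.card X.P1t = 1 ∨ Nat.card X.P1t = 3 ∨ Nat.card X.P1t = 9) ∧
    (Nat.card X.P2 = 1 ∨ Nat.card X.P2 = 3 ∨ Nat.card X.P2 = 9) := by
  have h : ∀ n, n ∣ 9 → n = 1 ∨ n = 3 ∨ n = 9 := by
    intro n hn
    have := Nat.le_of_dvd (by norm_num) hn
    interval_cases n <;> revert hn <;> decide
  exact ⟨h _ X.P1t_small.1, h _ X.P2_small.1⟩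

theorem PRt_le_P1t : X.PRt ≤ X.P1t := fun _ hr => ⟨hr.1.1, hr.2⟩

theorem PRt_le_P2 : X.PRt ≤ X.P2 := fun r hr => by
  obtain ⟨hi, hb, hx, hy, ht⟩ := X.mem_PRt.1 hr
  exact X.mem_P2.2 ⟨hi, hy, hx.mul_right hb, ht⟩

end Ctx

end H33.TwoAn
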