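import Cfsg.Agent.H33.TwoAn.LocalCount

/-!
Degree nine: the odd core of the centraliser of a three-cycle is `⟨b⟩`.
-/

set_option autoImplicit false
set_option linter.unusedSectionVars false
set_option linter.style.haveILetI false

namespace H33.TwoAn

universe u

variable {G : Type u} [Group G] [Finite G] {K : Cfg G}

namespace Cfg

theorem exps_mod {i j k i' j' k' : ℕ}
    (h : K.b ^ i * K.x ^ j * K.y ^ k = K.b ^ i' * K.x ^ j' * K.y ^ k') :
    i % 3 = i' % 3 ∧ j % 3 = j' % 3 ∧ k % 3 = k' % 3 := by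
  have red : ∀ (a : G), a ^ 3 = 1 → ∀ n : ℕ, a ^ n = a ^ (n % 3) := fun a ha n => by
    conv_lhs => rw [← Nat.div_add_mod n 3, pow_add, pow_mul, ha, one_pow, one_mul]
  rw [red _ K.hb i, red _ K.hb i', red _ K.hx j, red _ K.hx j', red _ K.hy k, red _ K.hy k'] at h
  have e := K.exps_inj (i := ⟨i % 3, Nat.mod_lt _ (by norm_num)⟩) (j := ⟨j % 3, Nat.mod_lt _ (by norm_num)⟩)
    (k := ⟨k % 3, Nat.mod_lt _ (by norm_num)⟩) (i' := ⟨i' % 3, Nat.mod_lt _ (by norm_num)⟩)
    (j' := ⟨j' % 3, Nat.mod_lt _ (by norm_num)⟩) (k' := ⟨k' % 3, Nat.mod_lt _ (by norm_num)⟩) h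
  simpa [Fin.ext_iff] using e

theorem form_mul (i j k i' j' k' : ℕ) :
    K.b ^ i * K.x ^ j * K.y ^ k * (K.b ^ i' * K.x ^ j' * K.y ^ k') =
      K.b ^ (i + i') * K.x ^ (j + j') * K.y ^ (k + k') := by
  rw [pow_add, pow_add, pow_add]
  calc _ = K.b ^ i * K.x ^ j * (K.y ^ k * (K.b ^ i' * K.x ^ j')) * K.y ^ k' := by group
    _ = K.b ^ i * K.x ^ j * ((K.b ^ i' * K.x ^ j') * K.y ^ k) * K.y ^ k' := by
      rw [((K.hby.symm.pow_pow k i').mul_right (K.hxy.symm.pow_pow k j')).eq]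
    _ = K.b ^ i * (K.x ^ j * K.b ^ i') * K.x ^ j' * (K.y ^ k * K.y ^ k') := by group
    _ = K.b ^ i * (K.b ^ i' * K.x ^ j) * K.x ^ j' * (K.y ^ k * K.y ^ k') := by rw [(K.hbx.symm.pow_pow j i').eq]
    _ = _ := by group

theorem form_pow (i j k m : ℕ) :
    (K.b ^ i * K.x ^ j * K.y ^ k) ^ m = K.b ^ (i * m) * K.x ^ (j * m) * K.y ^ (k * m) := by
  induction m with
  | zero => simp
  | succ m ih => rw [pow_succ, ih, form_mul, Nat.mul_succ, Nat.mul_succ, Nat.mul_succ]

end Cfg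

namespace Ctx

variable (X : Ctx K)

theorem nine (hN : Cfg.Nine K) : ∀ q : X.V, q = 1 := by
  by_contra hne
  push Not at hne
  obtain ⟨q₀, hq₀⟩ := hne
  obtain ⟨g₀, hg₀⟩ := K.fuse
  have hfz : K.IsFuse K.t g₀ := hg₀
  have hPRt1 : Nat.card X.PRt ≠ 1 := fun h => X.PR_ne hq₀ (by rw [X.card_PR, h]; rfl)
  -- transport of `C(z, d)`
  have hA : ∀ r, Odd (orderOf r) → Commute r K.z → Commute r K.d → r ∈ K.A := fun r ho h1 h2 => hN.odd_le r ho h1 h2
  have toA : ∀ r, Odd (orderOf r) → Commute r K.t → Commute r K.d → g₀⁻¹ * r * g₀ ∈ K.A := by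
    intro r ho h1 h2
    refine hA _ (by simpa using odd_orderOf_conj g₀⁻¹ ho) (K.pull_comm hfz h1 h2).1 (K.pull_comm hfz h1 h2).2
  let Vt : Subgroup G :=
    { carrier := {r | g₀⁻¹ * r * g₀ ∈ K.A ∧ K.z * r * K.z⁻¹ = r⁻¹}
      one_mem' := ⟨by simp [K.A.one_mem], by simp⟩
      mul_mem' := by
        rintro a b ⟨ha, ha'⟩ ⟨hb, hb'⟩
        refine ⟨by rw [show g₀⁻¹ * (a * b) * g₀ = g₀⁻¹ * a * g₀ * (g₀⁻¹ * b * g₀) by group]; exact K.A.mul_mem ha hb, ?_⟩
        have hc : Commute a b := by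
          have := commute_conj g₀ (K.A_comm ha hb)
          convert this using 1 <;> group
        rw [show K.z * (a * b) * K.z⁻¹ = K.z * a * K.z⁻¹ * (K.z * b * K.z⁻¹) by group, ha', hb', ← mul_inv_rev,
          hc.eq]
      inv_mem' := by
        rintro a ⟨ha, ha'⟩
        refine ⟨by rw [show g₀⁻¹ * a⁻¹ * g₀ = (g₀⁻¹ * a * g₀)⁻¹ by group]; exact K.A.inv_mem ha, ?_⟩
        rw [← conj_inv, ha'] }
  have mem_Vt : ∀ r, r ∈ Vt ↔ K.Inv r ∧ Commute r K.t ∧ Commute r K.d := by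
    intro r
    constructor
    · rintro ⟨hr, hr'⟩
      have := K.push_comm hfz (K.A_z hr).symm (K.A_comm hr K.d_mem)
      rw [show g₀ * (g₀⁻¹ * r * g₀) * g₀⁻¹ = r by group] at this
      refine ⟨⟨?_, hr'⟩, this.1, this.2⟩
      simpa [mul_assoc] using odd_orderOf_conj g₀ (K.A_odd hr)
    · rintro ⟨hi, h1, h2⟩
      exact ⟨toA r hi.1 h1 h2, hi.2⟩
  obtain ⟨-, hVt9, -, -⟩ := K.small_inverted hfz Vt (fun r hr => ((mem_Vt r).1 hr).1)
    (fun r hr => ((mem_Vt r).1 hr).2) (fun r hr r' hr' => by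
      have := commute_conj g₀ (K.A_comm hr.1 hr'.1)
      convert this using 1 <;> group) K.td.symm
  have hP1le : X.P1t ≤ Vt := fun r hr => by
    obtain ⟨hi, hb, hx, ht⟩ := X.mem_P1t.1 hr
    exact (mem_Vt r).2 ⟨hi, ht, hx.mul_right hb⟩
  have hP2le : X.P2 ≤ Vt := fun r hr => by
    obtain ⟨hi, -, hd, ht⟩ := X.mem_P2.1 hr
    exact (mem_Vt r).2 ⟨hi, ht, hd⟩
  rcases X.card_cases.1 with hc | hc | hc
  · exact hPRt1 (Nat.eq_one_of_dvd_one (hc ▸ Subgroup.card_dvd_of_le X.PRt_le_P1t))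
  · -- `|R_t| = 3`
    have hP2 : Nat.card X.P2 ≤ 5 := by
      have := X.ineq_two
      rw [X.card_P1, hc] at this
      by_contra h
      have : 6 ^ 4 ≤ (Nat.card X.P2 ^ 2) ^ 2 := by
        rw [← pow_mul]; exact Nat.pow_le_pow_left (by omega) 4
      omega
    have hR : Nat.card X.PRt = 3 := by
      have := Subgroup.card_dvd_of_le X.PRt_le_P1t
      rw [hc] at this
      exact ((Nat.dvd_prime Nat.prime_three).1 this).resolve_left hPRt1
    have hP2' : X.P2 = X.PRt := by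
      refine (Subgroup.eq_of_le_of_card_ge X.PRt_le_P2 ?_).symm
      rcases X.card_cases.2 with h | h | h <;> omega
    have hP1' : X.P1t = X.PRt := (Subgroup.eq_of_le_of_card_ge X.PRt_le_P1t (by omega)).symm
    -- a fusing element of order three on the four-group
    obtain ⟨θ, hθz, hθt, hθd⟩ : ∃ θ : G, θ * K.z * θ⁻¹ = K.t ∧ θ * K.t * θ⁻¹ = K.t * K.z ∧ θ * K.d * θ⁻¹ = K.d := by
      set i := g₀⁻¹ * (g₀ * K.t * g₀⁻¹) * g₀ with hidef
      set j := g₀ * K.t * g₀⁻¹ with hjdef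
      have hj2 : orderOf j = 2 := by
        rw [hjdef, show g₀ * K.t * g₀⁻¹ = MulAut.conj g₀ K.t from rfl, MulEquiv.orderOf_eq, K.ht]
      have hjt : Commute j K.t := by
        have := commute_conj g₀ K.hzt
        rw [hg₀.1] at this
        exact this.symm
      have hjd : Commute j K.d := by
        have := commute_conj g₀ K.td
        rwa [hfz.2] at this
      have hjne : j ≠ K.t := fun e => K.htz (by
        have e2 : g₀ * K.t * g₀⁻¹ = g₀ * K.z * g₀⁻¹ := by rw [hg₀.1]; exact e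
        exact mul_left_cancel (mul_right_cancel e2))
      -- pull back to `C(z)`
      obtain ⟨hi1, hi2⟩ := K.pull_comm hfz hjt hjd
      have hi0 : orderOf (g₀⁻¹ * K.z * g₀) = 2 := by
        rw [show g₀⁻¹ * K.z * g₀ = MulAut.conj g₀⁻¹ K.z by simp, MulEquiv.orderOf_eq, K.hz]
      obtain ⟨hw1, hw2⟩ := K.pull_comm hfz K.hzt K.hzd
      have hwne : g₀⁻¹ * K.z * g₀ ≠ K.z := fun e => K.htz (by
        calc K.t = g₀ * K.z * g₀⁻¹ := hg₀.1.symm
          _ = g₀ * (g₀⁻¹ * K.z * g₀) * g₀⁻¹ := by rw [e]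
          _ = K.z := by group)
      obtain ⟨c, hcz, hcd, hc'⟩ := K.pairs _ hi0 hwne hw1 hw2
      -- `g = g₀ c⁻¹` sends `z` to `t` and `t` or `t z` to `z`
      set g := g₀ * c⁻¹ with hgdef
      have hgz : g * K.z * g⁻¹ = K.t := by
        rw [hgdef, show g₀ * c⁻¹ * K.z * (g₀ * c⁻¹)⁻¹ = g₀ * (c⁻¹ * K.z * c) * g₀⁻¹ by group,
          mul_assoc c⁻¹, ← hcz.eq, inv_mul_cancel_left, hg₀.1]
      have hgd : g * K.d * g⁻¹ = K.d := by
        rw [hgdef, show g₀ * c⁻¹ * K.d * (g₀ * c⁻¹)⁻¹ = g₀ * (c⁻¹ * K.d * c) * g₀⁻¹ by group,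
          mul_assoc c⁻¹, ← (show Commute c K.d from hcd).eq, inv_mul_cancel_left]
        exact hfz.2
      have hgw : ∀ w, c * (g₀⁻¹ * K.z * g₀) * c⁻¹ = w → g * w * g⁻¹ = K.z := by
        intro w hw
        rw [hgdef, ← hw]; group
      have hmul : g * (K.t * K.z) * g⁻¹ = g * K.t * g⁻¹ * K.t := by
        rw [show g * (K.t * K.z) * g⁻¹ = g * K.t * g⁻¹ * (g * K.z * g⁻¹) by group, hgz]
      rcases hc' with hw | hw
      · -- `g` interchanges `z` and `t`: combine it with `h g h⁻¹`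
        have hgt := hgw _ hw
        set g2 := K.h * g * K.h⁻¹ with hg2
        have hh1 : ∀ a c' : G, g * a * g⁻¹ = c' → g2 * (K.h * a * K.h⁻¹) * g2⁻¹ = K.h * c' * K.h⁻¹ := by
          intro a c' e; rw [hg2, ← e]; group
        have hzh' : K.h * K.z * K.h⁻¹ = K.z := by rw [K.hzh.symm.eq, mul_inv_cancel_right]
        have a1 : g2 * K.z * g2⁻¹ = K.t * K.z := by
          have := hh1 _ _ hgz; rwa [hzh', K.h_t] at this
        have a2 : g2 * (K.t * K.z) * g2⁻¹ = K.z := by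
          have := hh1 _ _ hgt; rwa [hzh', K.h_t] at this
        have a3 : g2 * K.d⁻¹ * g2⁻¹ = K.d⁻¹ := by
          have := hh1 _ _ hgd; rwa [K.h_d] at this
        have a3' : g2 * K.d * g2⁻¹ = K.d := by
          rw [← conj_inv, inv_inj] at a3; exact a3
        refine ⟨g2 * g, ?_, ?_, ?_⟩
        · rw [show g2 * g * K.z * (g2 * g)⁻¹ = g2 * (g * K.z * g⁻¹) * g2⁻¹ by group, hgz]
          have e1 : g2 * K.t * g2⁻¹ = g2 * (K.t * K.z) * g2⁻¹ * (g2 * K.z * g2⁻¹) := by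
            calc g2 * K.t * g2⁻¹ = g2 * (K.t * K.z * K.z) * g2⁻¹ := by rw [mul_assoc K.t, sq_eq_one_of K.hz, mul_one]
              _ = _ := by group
          rw [e1, a1, a2, ← mul_assoc, K.hzt.eq, mul_assoc, sq_eq_one_of K.hz, mul_one]
        · rw [show g2 * g * K.t * (g2 * g)⁻¹ = g2 * (g * K.t * g⁻¹) * g2⁻¹ by group, hgt, a1]
        · rw [show g2 * g * K.d * (g2 * g)⁻¹ = g2 * (g * K.d * g⁻¹) * g2⁻¹ by group, hgd, a3']
      · refine ⟨g, hgz, ?_, hgd⟩
        have hgt := hgw _ hw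
        rw [hmul] at hgt
        calc g * K.t * g⁻¹ = g * K.t * g⁻¹ * K.t * K.t := by rw [mul_assoc _ K.t K.t, sq_eq_one_of K.ht, mul_one]
          _ = K.t * K.z := by rw [hgt]; exact K.hzt.eq
    have hθtz : θ * (K.t * K.z) * θ⁻¹ = K.z := by
      rw [show θ * (K.t * K.z) * θ⁻¹ = θ * K.t * θ⁻¹ * (θ * K.z * θ⁻¹) by group, hθt, hθz, K.hzt.symm.eq,
        mul_assoc, sq_eq_one_of K.ht, mul_one]
    have normA : ∀ c : G, Commute c K.z → (c * K.d * c⁻¹ = K.d ∨ c * K.d * c⁻¹ = K.d⁻¹) → ∀ r ∈ K.A,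
        c * r * c⁻¹ ∈ K.A := by
      intro c hc hd r hr
      refine hA _ (odd_orderOf_conj c (K.A_odd hr))
        ((hc.mul_left (K.A_z hr).symm).mul_left hc.inv_left) ?_
      have := commute_conj c (K.A_comm hr K.d_mem)
      rcases hd with e | e <;> rw [e] at this
      · exact this
      · simpa using this.inv_right
    have normR : ∀ c : G, Commute c K.z → (c * K.d * c⁻¹ = K.d ∨ c * K.d * c⁻¹ = K.d⁻¹) → ∀ r ∈ X.PR,
        c * r * c⁻¹ ∈ X.PR := by
      intro c hc hd r hr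
      obtain ⟨hi, hb, hx, hy⟩ := X.mem_PR.1 hr
      have hci : c⁻¹ * K.d * c⁻¹⁻¹ = K.d ∨ c⁻¹ * K.d * c⁻¹⁻¹ = K.d⁻¹ := by
        rcases hd with e | e
        · exact Or.inl (by nth_rw 1 [← e]; group)
        · refine Or.inr ?_
          have : K.d = (c * K.d⁻¹ * c⁻¹) := by rw [← conj_inv, e, inv_inv]
          nth_rw 1 [this]; group
      have key : ∀ a ∈ K.A, Commute (c * r * c⁻¹) a := by
        intro a ha
        have h1 : Commute r (c⁻¹ * a * c⁻¹⁻¹) :=
          K.commute_A hb hx hy (normA c⁻¹ hc.inv_left hci a ha)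
        have := commute_conj c h1
        rwa [show c * (c⁻¹ * a * c⁻¹⁻¹) * c⁻¹ = a by group] at this
      exact X.mem_PR.2 ⟨K.inv_conj hc hi, key _ K.b_mem, key _ K.x_mem, key _ K.y_mem⟩
    -- the two lines
    obtain ⟨⟨r0, hr0⟩, hr01⟩ : ∃ r : X.PRt, r ≠ 1 := by
      haveI : Nontrivial X.PRt := Finite.one_lt_card_iff_nontrivial.1 (by omega)
      exact exists_ne 1
    have hr01 : r0 ≠ 1 := fun e => hr01 (Subtype.ext e)
    have gen : ∀ r ∈ X.PRt, ∃ m : ℕ, r = r0 ^ m := by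
      intro r hr
      have e : Subgroup.zpowers r0 = X.PRt := by
        refine Subgroup.eq_of_le_of_card_ge (Subgroup.zpowers_le.2 hr0) ?_
        rw [hR, Nat.card_zpowers, orderOf_eq_prime (p := 3) (X.P1t_small.2 _ (X.PRt_le_P1t hr0)) hr01]
      rw [← e] at hr
      obtain ⟨m, hm⟩ := mem_powers_iff_mem_zpowers.2 hr
      exact ⟨m, hm.symm⟩
    set r1 := K.h * r0 * K.h⁻¹ with hr1
    have hr0R : r0 ∈ X.PR := hr0.1
    have hr0t : Commute r0 K.t := (X.mem_PRt.1 hr0).2.2.2.2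
    have hr1R : r1 ∈ X.PR := X.conj_h_PR hr0R
    have hr1tz : Commute r1 (K.t * K.z) := by
      have := commute_conj K.h hr0t
      rwa [K.h_t] at this
    have gen1 : ∀ r ∈ X.PR, Commute r (K.t * K.z) → ∃ m : ℕ, r = r1 ^ m := by
      intro r hr hc
      have hr' : K.h⁻¹ * r * K.h ∈ X.PR := by
        have := normR K.h⁻¹ K.hzh.symm.inv_left (Or.inr (by
          have : K.d = K.h * K.d⁻¹ * K.h⁻¹ := by rw [← conj_inv, K.h_d, inv_inv]
          nth_rw 1 [this]; group)) r hr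
        simpa using this
      have hct : Commute (K.h⁻¹ * r * K.h) K.t := by
        have := commute_conj K.h⁻¹ hc
        rw [inv_inv] at this
        convert this using 1
        rw [← K.h_t]; group
      obtain ⟨m, hm⟩ := gen _ ⟨hr', Subgroup.mem_centralizer_singleton_iff.2 hct.eq⟩
      exact ⟨m, by rw [hr1, conj_pow, ← hm]; group⟩
    set a1 := θ * r1 * θ⁻¹ with ha1
    set a2 := θ * (θ * r0 * θ⁻¹) * θ⁻¹ with ha2
    have comm_d : ∀ r ∈ X.PR, Commute r K.d := fun r hr => (X.mem_PR.1 hr).2.2.1.mul_right (X.mem_PR.1 hr).2.1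
    have hconjd : ∀ r, Commute r K.d → Commute (θ * r * θ⁻¹) K.d := fun r hr => by
      have := commute_conj θ hr; rwa [hθd] at this
    have a1z : Commute a1 K.z := by have := commute_conj θ hr1tz; rwa [hθtz] at this
    have a2z : Commute a2 K.z := by
      have h1 := commute_conj θ hr0t
      rw [hθt] at h1
      have h2 := commute_conj θ h1
      rwa [hθtz] at h2
    have a1A : a1 ∈ K.A := hA _ (odd_orderOf_conj _ (X.mem_PR.1 hr1R).1.1) a1z (hconjd _ (comm_d _ hr1R))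
    have a2A : a2 ∈ K.A := hA _ (odd_orderOf_conj _ (odd_orderOf_conj _ (X.mem_PR.1 hr0R).1.1)) a2z
      (hconjd _ (hconjd _ (comm_d _ hr0R)))
    have a1t : K.t * a1 * K.t⁻¹ = a1⁻¹ := by
      nth_rw 1 2 [← hθz]
      rw [ha1, show θ * K.z * θ⁻¹ * (θ * r1 * θ⁻¹) * (θ * K.z * θ⁻¹)⁻¹ = θ * (K.z * r1 * K.z⁻¹) * θ⁻¹ by group,
        (X.mem_PR.1 hr1R).1.2]
      group
    have a2t : K.t * a2 * K.t⁻¹ = a2⁻¹ := by
      have e0 : (K.t * K.z) * a2 * (K.t * K.z)⁻¹ = a2⁻¹ := by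
        have e : K.t * K.z = θ * (θ * K.z * θ⁻¹) * θ⁻¹ := by rw [hθz, hθt]
        rw [e, ha2, show θ * (θ * K.z * θ⁻¹) * θ⁻¹ * (θ * (θ * r0 * θ⁻¹) * θ⁻¹) * (θ * (θ * K.z * θ⁻¹) * θ⁻¹)⁻¹ =
          θ * (θ * (K.z * r0 * K.z⁻¹) * θ⁻¹) * θ⁻¹ by simp only [mul_inv_rev, inv_inv, mul_assoc, inv_mul_cancel_left], (X.mem_PR.1 hr0R).1.2]
        simp only [mul_inv_rev, inv_inv, mul_assoc, inv_mul_cancel_left]
      have h3 : K.z * a2 * K.z⁻¹ = a2 := by rw [← a2z.eq, mul_inv_cancel_right]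
      calc K.t * a2 * K.t⁻¹ = K.t * (K.z * a2 * K.z⁻¹) * K.t⁻¹ := by rw [h3]
        _ = _ := by rw [← e0]; group
    -- `h a1 h⁻¹` is a power of `a2`
    obtain ⟨m, hm⟩ : ∃ m : ℕ, K.h * a1 * K.h⁻¹ = a2 ^ m := by
      set k := (θ * θ)⁻¹ * K.h * θ with hk
      have hθ2z : θ * θ * K.z * (θ * θ)⁻¹ = K.t * K.z := by
        rw [show θ * θ * K.z * (θ * θ)⁻¹ = θ * (θ * K.z * θ⁻¹) * θ⁻¹ by simp only [mul_inv_rev, inv_inv, mul_assoc], hθz, hθt]
      have hkz : Commute k K.z := by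
        rw [hk]
        refine mul_inv_eq_iff_eq_mul.1 ?_
        rw [show (θ * θ)⁻¹ * K.h * θ * K.z * ((θ * θ)⁻¹ * K.h * θ)⁻¹ =
          (θ * θ)⁻¹ * (K.h * (θ * K.z * θ⁻¹) * K.h⁻¹) * (θ * θ) by simp only [mul_inv_rev, inv_inv, mul_assoc], hθz, K.h_t, ← hθ2z]
        simp [mul_assoc]
      have hkd : k * K.d * k⁻¹ = K.d⁻¹ := by
        have hd2 : θ * θ * K.d⁻¹ * (θ * θ)⁻¹ = K.d⁻¹ := by
          rw [show θ * θ * K.d⁻¹ * (θ * θ)⁻¹ = (θ * (θ * K.d * θ⁻¹) * θ⁻¹)⁻¹ by simp only [mul_inv_rev, inv_inv, mul_assoc], hθd, hθd]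
        rw [hk, show (θ * θ)⁻¹ * K.h * θ * K.d * ((θ * θ)⁻¹ * K.h * θ)⁻¹ =
          (θ * θ)⁻¹ * (K.h * (θ * K.d * θ⁻¹) * K.h⁻¹) * (θ * θ) by simp only [mul_inv_rev, inv_inv, mul_assoc], hθd, K.h_d]
        nth_rw 1 [← hd2]; simp [mul_assoc]
      have hkt : k * (K.t * K.z) * k⁻¹ = K.t := by
        have e : θ * θ * K.t * (θ * θ)⁻¹ = K.z := by
          rw [show θ * θ * K.t * (θ * θ)⁻¹ = θ * (θ * K.t * θ⁻¹) * θ⁻¹ by simp only [mul_inv_rev, inv_inv, mul_assoc], hθt, hθtz]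
        rw [hk, show (θ * θ)⁻¹ * K.h * θ * (K.t * K.z) * ((θ * θ)⁻¹ * K.h * θ)⁻¹ =
          (θ * θ)⁻¹ * (K.h * (θ * (K.t * K.z) * θ⁻¹) * K.h⁻¹) * (θ * θ) by simp only [mul_inv_rev, inv_inv, mul_assoc], hθtz,
          K.hzh.symm.eq, mul_inv_cancel_right]
        nth_rw 1 [← e]; simp [mul_assoc]
      have hk1 : k * r1 * k⁻¹ ∈ X.PRt := by
        refine ⟨normR k hkz (Or.inr hkd) r1 hr1R, ?_⟩
        apply Subgroup.mem_centralizer_singleton_iff.2
        have := commute_conj k hr1tz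
        rw [hkt] at this
        exact this.eq
      obtain ⟨m, hm⟩ := gen _ hk1
      refine ⟨m, ?_⟩
      rw [ha1, ha2, conj_pow, conj_pow, ← hm, hk]; group
    -- exponents
    obtain ⟨i, j, k, hijk⟩ := K.mem_A_exists a1A
    have hij : ((i : ℕ) + j) % 3 = 0 := by
      have h1 : a1 * (K.t * a1 * K.t⁻¹) = 1 := by rw [a1t, mul_inv_cancel]
      have h2 : K.t * a1 * K.t⁻¹ = K.b ^ (j : ℕ) * K.x ^ (i : ℕ) * K.y ^ (2 * (k : ℕ)) := by
        rw [hijk, show K.t * (K.b ^ (i : ℕ) * K.x ^ (j : ℕ) * K.y ^ (k : ℕ)) * K.t⁻¹ =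
          K.t * K.b ^ (i : ℕ) * K.t⁻¹ * (K.t * K.x ^ (j : ℕ) * K.t⁻¹) * (K.t * K.y ^ (k : ℕ) * K.t⁻¹) by group,
          ← conj_pow, ← conj_pow, ← conj_pow, K.t_b, K.t_x, K.t_y, (K.hbx.symm.pow_pow (i : ℕ) (j : ℕ)).eq, pow_mul,
          show K.y ^ 2 = K.y⁻¹ from (inv_eq_of_mul_eq_one_right (by rw [← pow_succ']; exact K.hy)).symm]
      rw [h2, hijk, Cfg.form_mul] at h1
      have := Cfg.exps_mod (K := K) (i := (i : ℕ) + j) (j := (j : ℕ) + i) (k := (k : ℕ) + 2 * k) (i' := 0) (j' := 0)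
        (k' := 0) (by simpa using h1)
      simpa using this.1
    -- `a1` is not a power of `a2`
    have hne : ∀ n : ℕ, a1 ≠ a2 ^ n := by
      intro n hn
      have a1ne : a1 ≠ 1 := fun e => hr01 (conj_eq_one_iff.1 (conj_eq_one_iff.1 e))
      have a23 : a2 ^ 3 = 1 := by
        rw [ha2, conj_pow, conj_pow, X.P1t_small.2 _ (X.PRt_le_P1t hr0)]; simp
      have hn3 : n % 3 ≠ 0 := fun e => a1ne (by
        rw [hn, ← Nat.div_add_mod n 3, e, add_zero, pow_mul, a23, one_pow])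
      have ha21 : a2 = a1 ^ n := by
        rw [hn, ← pow_mul]
        have e : n * n = 3 * (n * n / 3) + 1 := by
          have h1 : n * n % 3 = 1 := by
            rw [Nat.mul_mod]
            rcases (show n % 3 = 1 ∨ n % 3 = 2 by omega) with e | e <;> rw [e]
          omega
        rw [e, pow_succ, pow_mul, a23, one_pow, one_mul]
      have hm2 : K.h * a1 * K.h⁻¹ = a1 ^ (n * m) := by rw [hm, ha21, pow_mul]
      have hh : K.h * a1 * K.h⁻¹ = K.b ^ (2 * (j : ℕ)) * K.x ^ (2 * (i : ℕ)) * K.y ^ (2 * (k : ℕ)) := by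
        have e2 : ∀ a : G, a ^ 3 = 1 → a ^ 2 = a⁻¹ := fun a ha =>
          (inv_eq_of_mul_eq_one_right (by rw [← pow_succ']; exact ha)).symm
        rw [hijk, show K.h * (K.b ^ (i : ℕ) * K.x ^ (j : ℕ) * K.y ^ (k : ℕ)) * K.h⁻¹ =
          K.h * K.b ^ (i : ℕ) * K.h⁻¹ * (K.h * K.x ^ (j : ℕ) * K.h⁻¹) * (K.h * K.y ^ (k : ℕ) * K.h⁻¹) by group,
          ← conj_pow, ← conj_pow, ← conj_pow, K.h_b, K.h_x, K.h_y, pow_mul, pow_mul, pow_mul, e2 _ K.hb, e2 _ K.hx,
          e2 _ K.hy, (K.hbx.symm.inv_left.inv_right.pow_pow (i : ℕ) (j : ℕ)).eq]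
      rw [hh, hijk, Cfg.form_pow] at hm2
      obtain ⟨e1, e2, e3⟩ := Cfg.exps_mod hm2
      have hjk : (j : ℕ) = 0 ∨ (k : ℕ) = 0 := by
        have key : ∀ i j k p : Fin 3, ((i : ℕ) + j) % 3 = 0 → 2 * (j : ℕ) % 3 = (i : ℕ) * p % 3 →
            2 * (i : ℕ) % 3 = (j : ℕ) * p % 3 → 2 * (k : ℕ) % 3 = (k : ℕ) * p % 3 → (j : ℕ) = 0 ∨ (k : ℕ) = 0 := by
          decide
        refine key i j k ⟨n * m % 3, Nat.mod_lt _ (by norm_num)⟩ hij ?_ ?_ ?_ <;>
          simp [Nat.mul_mod, e1, e2, e3]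
      -- an element of `⟨e, y⟩` fixed by `h` gives too many elements commuting with it
      have main : ∀ c : G, (∃ p : ℕ, c = a1 ^ p) →
          ∀ a, (a = K.e ∨ a = K.y) → K.Inv (θ * a * θ⁻¹) ∧ Commute (θ * a * θ⁻¹) c ∧ Commute (θ * a * θ⁻¹) K.t ∧
            Commute (θ * a * θ⁻¹) K.d := by
        rintro c ⟨p, rfl⟩ a ha
        have haA : a ∈ K.A := by rcases ha with rfl | rfl; exacts [K.e_mem, K.y_mem]
        obtain ⟨hb, hx, hy⟩ := (X.mem_PR.1 hr1R).2
        refine ⟨⟨odd_orderOf_conj _ (K.A_odd haA), ?_⟩, ?_, ?_, hconjd _ (K.A_comm haA K.d_mem)⟩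
        · nth_rw 1 2 [← hθtz]
          rw [show θ * (K.t * K.z) * θ⁻¹ * (θ * a * θ⁻¹) * (θ * (K.t * K.z) * θ⁻¹)⁻¹ =
            θ * (K.t * (K.z * a * K.z⁻¹) * K.t⁻¹) * θ⁻¹ by group, (K.A_z haA).eq, mul_inv_cancel_right]
          rcases ha with rfl | rfl
          · rw [K.t_e]; group
          · rw [K.t_y]; group
        · exact (commute_conj θ (K.commute_A hb hx hy haA).symm).pow_right p
        · have := commute_conj θ (K.A_z haA).symm
          rwa [hθz] at this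
      have count : ∀ P : Subgroup G, Nat.card P ≤ 5 →
          (∀ a, (a = K.e ∨ a = K.y) → θ * a * θ⁻¹ ∈ P) → False := by
        intro P hP hmem
        have hinj : Function.Injective (fun p : Fin 3 × Fin 3 =>
            (⟨θ * (K.e ^ (p.1 : ℕ) * K.y ^ (p.2 : ℕ)) * θ⁻¹, by
              rw [show θ * (K.e ^ (p.1 : ℕ) * K.y ^ (p.2 : ℕ)) * θ⁻¹ =
                θ * K.e ^ (p.1 : ℕ) * θ⁻¹ * (θ * K.y ^ (p.2 : ℕ) * θ⁻¹) by group, ← conj_pow, ← conj_pow]
              exact P.mul_mem (P.pow_mem (hmem _ (Or.inl rfl)) _) (P.pow_mem (hmem _ (Or.inr rfl)) _)⟩ : P)) := by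
          rintro ⟨p, q⟩ ⟨p', q'⟩ e
          have e' := mul_left_cancel (mul_right_cancel (congrArg Subtype.val e))
          have hform : ∀ p q : ℕ, K.e ^ p * K.y ^ q = K.b ^ (2 * p) * K.x ^ p * K.y ^ q := by
            intro p q
            rw [Cfg.e, K.hbx.symm.inv_right.mul_pow, pow_mul,
              show K.b ^ 2 = K.b⁻¹ from (inv_eq_of_mul_eq_one_right (by rw [← pow_succ']; exact K.hb)).symm,
              (K.hbx.symm.inv_right.pow_pow p p).eq]
          rw [hform, hform] at e'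
          obtain ⟨-, h2, h3⟩ := Cfg.exps_mod e'
          have p3 : (p : ℕ) % 3 = p := Nat.mod_eq_of_lt p.2
          have p3' : (p' : ℕ) % 3 = p' := Nat.mod_eq_of_lt p'.2
          have q3 : (q : ℕ) % 3 = q := Nat.mod_eq_of_lt q.2
          have q3' : (q' : ℕ) % 3 = q' := Nat.mod_eq_of_lt q'.2
          exact Prod.ext (Fin.ext (by omega)) (Fin.ext (by omega))
        have := Nat.card_le_card_of_injective _ hinj
        simp only [Nat.card_prod, Nat.card_fin] at this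
        omega
      rcases hjk with hj0 | hk0
      · -- `a1` is a power of `y`
        have hi0 : (i : ℕ) = 0 := by omega
        have hk1 : (k : ℕ) ≠ 0 := fun e => a1ne (by rw [hijk, hi0, hj0, e]; simp)
        have hy1 : ∃ p : ℕ, K.y = a1 ^ p := ⟨k, by
          rw [hijk, hi0, hj0, pow_zero, pow_zero, one_mul, one_mul, ← pow_mul]
          have : (k : ℕ) * k = 3 * ((k : ℕ) * k / 3) + 1 := by
            have : ∀ k : Fin 3, (k : ℕ) ≠ 0 → (k : ℕ) * k % 3 = 1 := by decide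
            have := this k hk1
            omega
          rw [this, pow_succ, pow_mul, K.hy, one_pow, one_mul]⟩
        refine count X.P2 hP2 fun a ha => ?_
        obtain ⟨h1, h2, h3, h4⟩ := main _ hy1 a ha
        exact X.mem_P2.2 ⟨h1, h2, h4, h3⟩
      · -- `a1` is a power of `e`
        have hi' : (i : ℕ) % 3 = 2 * (j : ℕ) % 3 := by omega
        have hj1 : (j : ℕ) ≠ 0 := fun e => a1ne (by
          rw [hijk, hk0, e, show (i : ℕ) = 0 by omega]; simp)
        have he1 : ∃ p : ℕ, K.e = a1 ^ p := ⟨j, by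
          rw [hijk, Cfg.form_pow, hk0, zero_mul, pow_zero, mul_one, Cfg.e]
          have e1 : (j : ℕ) * j % 3 = 1 := by
            have : ∀ j : Fin 3, (j : ℕ) ≠ 0 → (j : ℕ) * j % 3 = 1 := by decide
            exact this j hj1
          have e2 : (i : ℕ) * j % 3 = 2 := by
            rw [Nat.mul_mod, hi', ← Nat.mul_mod, mul_assoc, Nat.mul_mod, e1]
          rw [show (i : ℕ) * j = 3 * ((i : ℕ) * j / 3) + 2 by omega,
            show (j : ℕ) * j = 3 * ((j : ℕ) * j / 3) + 1 by omega, pow_add, pow_add, pow_mul, pow_mul, K.hb, K.hx,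
            one_pow, one_pow, one_mul, one_mul, pow_one,
            show K.b ^ 2 = K.b⁻¹ from (inv_eq_of_mul_eq_one_right (by rw [← pow_succ']; exact K.hb)).symm]
          exact K.hbx.symm.inv_right.eq⟩
        refine count X.P1t (by omega) fun a ha => ?_
        obtain ⟨h1, h2, h3, h4⟩ := main _ he1 a ha
        -- `b` and `x` are powers of `d` and `e`
        refine X.mem_P1t.2 ⟨h1, ?_, ?_, h3⟩
        · have hb' : K.b = (K.d * K.e⁻¹) ^ 2 := by
            have : K.d * K.e⁻¹ = K.b * K.b := by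
              rw [Cfg.d, Cfg.e, mul_inv_rev, inv_inv]
              calc K.x * K.b * (K.b * K.x⁻¹) = K.x * (K.b * K.b) * K.x⁻¹ := by group
                _ = K.b * K.b := by rw [(K.hbx.symm.mul_right K.hbx.symm).eq, mul_inv_cancel_right]
            rw [this, ← pow_two, ← pow_mul, show 2 * 2 = 3 + 1 from rfl, pow_succ, K.hb, one_mul]
          rw [hb']
          exact (h4.mul_right h2.inv_right).pow_right 2
        · have hx' : K.x = (K.d * K.e) ^ 2 := by
            have : K.d * K.e = K.x * K.x := by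
              rw [Cfg.d, Cfg.e, mul_assoc, ← mul_assoc K.b, ← K.hbx.symm.eq]; group
            rw [this, ← pow_two, ← pow_mul, show 2 * 2 = 3 + 1 from rfl, pow_succ, K.hx, one_mul]
          rw [hx']
          exact (h4.mul_right h2).pow_right 2
    -- the second line in `C(t)`
    set r2 := θ * (θ * r1 * θ⁻¹) * θ⁻¹ with hr2
    have r2t : Commute r2 K.t := by
      have h1 := commute_conj θ hr1tz
      rw [hθtz] at h1
      have h2 := commute_conj θ h1
      rwa [hθz] at h2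
    have r2Vt : r2 ∈ Vt := by
      refine (mem_Vt _).2 ⟨⟨odd_orderOf_conj _ (odd_orderOf_conj _ (X.mem_PR.1 hr1R).1.1), ?_⟩, r2t,
        hconjd _ (hconjd _ (comm_d _ hr1R))⟩
      have e0 : (K.t * K.z) * r2 * (K.t * K.z)⁻¹ = r2⁻¹ := by
        have e : K.t * K.z = θ * (θ * K.z * θ⁻¹) * θ⁻¹ := by rw [hθz, hθt]
        rw [e, hr2, show θ * (θ * K.z * θ⁻¹) * θ⁻¹ * (θ * (θ * r1 * θ⁻¹) * θ⁻¹) * (θ * (θ * K.z * θ⁻¹) * θ⁻¹)⁻¹ =
          θ * (θ * (K.z * r1 * K.z⁻¹) * θ⁻¹) * θ⁻¹ by simp only [mul_inv_rev, inv_inv, mul_assoc, inv_mul_cancel_left], (X.mem_PR.1 hr1R).1.2]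
        simp only [mul_inv_rev, inv_inv, mul_assoc, inv_mul_cancel_left]
      have e1 : K.t * r2 * K.t⁻¹ = r2 := by rw [← r2t.eq, mul_inv_cancel_right]
      rw [← e0, K.hzt.symm.eq]
      nth_rw 1 [← e1]; group
    have r0Vt : r0 ∈ Vt := (mem_Vt _).2 ⟨(X.mem_PR.1 hr0R).1, hr0t, comm_d _ hr0R⟩
    have r2n : ∀ n : ℕ, r2 ≠ r0 ^ n := by
      intro n hn
      -- apply `θ²`: `θ³` normalises `R`
      set φ := θ * θ * θ with hφ
      have hφz : Commute φ K.z := by
        refine mul_inv_eq_iff_eq_mul.1 ?_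
        rw [hφ, show θ * θ * θ * K.z * (θ * θ * θ)⁻¹ = θ * (θ * (θ * K.z * θ⁻¹) * θ⁻¹) * θ⁻¹ by group, hθz, hθt, hθtz]
      have hφd : φ * K.d * φ⁻¹ = K.d := by
        rw [hφ, show θ * θ * θ * K.d * (θ * θ * θ)⁻¹ = θ * (θ * (θ * K.d * θ⁻¹) * θ⁻¹) * θ⁻¹ by group, hθd, hθd, hθd]
      have hφtz : φ * (K.t * K.z) * φ⁻¹ = K.t * K.z := by
        rw [hφ, show θ * θ * θ * (K.t * K.z) * (θ * θ * θ)⁻¹ = θ * (θ * (θ * (K.t * K.z) * θ⁻¹) * θ⁻¹) * θ⁻¹ by group,
          hθtz, hθz, hθt]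
      obtain ⟨p, hp⟩ := gen1 _ (normR φ hφz (Or.inl hφd) r1 hr1R) (by
        have := commute_conj φ hr1tz; rwa [hφtz] at this)
      have e : a2 ^ n = a1 ^ p := by
        rw [ha2, ha1, conj_pow, conj_pow, ← hn, conj_pow, ← hp, hr2, hφ]; group
      have a13 : a1 ^ 3 = 1 := by
        rw [ha1, conj_pow, hr1, conj_pow, X.P1t_small.2 _ (X.PRt_le_P1t hr0)]; simp
      by_cases hp3 : p % 3 = 0
      · refine hr01 ?_
        have h0 : a2 ^ n = 1 := by rw [e, ← Nat.div_add_mod p 3, hp3, add_zero, pow_mul, a13, one_pow]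
        have h1 : r2 = 1 := by
          rw [hn]
          rw [ha2, conj_pow, conj_pow, conj_eq_one_iff, conj_eq_one_iff] at h0
          exact h0
        rw [hr2, conj_eq_one_iff, conj_eq_one_iff, hr1, conj_eq_one_iff] at h1
        exact h1
      · refine hne (n * p) ?_
        rw [pow_mul, e, ← pow_mul]
        have : p * p % 3 = 1 := by
          rw [Nat.mul_mod]
          rcases (show p % 3 = 1 ∨ p % 3 = 2 by omega) with e | e <;> rw [e]
        rw [show p * p = 3 * (p * p / 3) + 1 by omega, pow_succ, pow_mul, a13, one_pow, one_mul]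
    -- `a2` centralises both, so it is a power of `a1`
    let P : Subgroup G := Vt ⊓ Subgroup.centralizer ({a2} : Set G)
    have hPeq : P = Vt := by
      refine Subgroup.eq_of_le_of_card_ge inf_le_left ?_
      have hV9 : Nat.card Vt ≤ 9 := Nat.le_of_dvd (by norm_num) hVt9
      have hr0P : r0 ∈ P := ⟨r0Vt, Subgroup.mem_centralizer_singleton_iff.2
        (K.commute_A (X.mem_PR.1 hr0R).2.1 (X.mem_PR.1 hr0R).2.2.1 (X.mem_PR.1 hr0R).2.2.2 a2A).eq⟩
      have hr2P : r2 ∈ P := ⟨r2Vt, Subgroup.mem_centralizer_singleton_iff.2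
        (commute_conj θ (commute_conj θ (X.P1_comm _ hr1R.1 _ hr0R.1))).eq⟩
      have hlt : Subgroup.zpowers r0 < P := by
        refine lt_of_le_of_ne (Subgroup.zpowers_le.2 hr0P) fun e => ?_
        rw [← e] at hr2P
        obtain ⟨p, hp⟩ := mem_powers_iff_mem_zpowers.2 hr2P
        exact r2n p hp.symm
      have hc3 : Nat.card (Subgroup.zpowers r0) = 3 := by
        rw [Nat.card_zpowers, orderOf_eq_prime (p := 3) (X.P1t_small.2 _ (X.PRt_le_P1t hr0)) hr01]
      have hdv : Nat.card P ∣ Nat.card Vt := Subgroup.card_dvd_of_le inf_le_left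
      have hgt : 3 < Nat.card P := by
        have hle := Nat.le_of_dvd Nat.card_pos (Subgroup.card_dvd_of_le hlt.le)
        rw [hc3] at hle
        rcases Nat.lt_or_ge 3 (Nat.card P) with h | h
        · exact h
        · exact absurd (Subgroup.eq_of_le_of_card_ge hlt.le (by omega)) hlt.ne
      obtain ⟨w, hw⟩ := (hdv.trans hVt9)
      have : Nat.card P = 9 := by
        have h9 := Nat.le_of_dvd (by norm_num) (hdv.trans hVt9)
        interval_cases Nat.card P <;> omega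
      omega
    set a0 := θ⁻¹ * a2 * θ with ha0
    have hVc : ∀ r ∈ Vt, Commute r a2 := fun r hr => by
      rw [← hPeq] at hr
      exact Subgroup.mem_centralizer_singleton_iff.1 hr.2
    have hAt : ∀ a, (a = K.e ∨ a = K.y) → Commute a0 a := by
      intro a ha
      have haA : a ∈ K.A := by rcases ha with rfl | rfl; exacts [K.e_mem, K.y_mem]
      have hmem : θ * a * θ⁻¹ ∈ Vt := by
        refine (mem_Vt _).2 ⟨⟨odd_orderOf_conj _ (K.A_odd haA), ?_⟩, ?_, hconjd _ (K.A_comm haA K.d_mem)⟩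
        · nth_rw 1 2 [← hθtz]
          rw [show θ * (K.t * K.z) * θ⁻¹ * (θ * a * θ⁻¹) * (θ * (K.t * K.z) * θ⁻¹)⁻¹ =
            θ * (K.t * (K.z * a * K.z⁻¹) * K.t⁻¹) * θ⁻¹ by group, (K.A_z haA).eq, mul_inv_cancel_right]
          rcases ha with rfl | rfl
          · rw [K.t_e]; group
          · rw [K.t_y]; group
        · have := commute_conj θ (K.A_z haA).symm
          rwa [hθz] at this
      have := commute_conj θ⁻¹ (hVc _ hmem).symm
      rw [inv_inv] at this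
      convert this using 1
      group
    have a0d : Commute a0 K.d := by
      have := commute_conj θ⁻¹ (K.A_comm a2A K.d_mem)
      rw [inv_inv] at this
      convert this using 1
      nth_rw 2 [← hθd]; group
    have hb' : K.b = (K.d * K.e⁻¹) ^ 2 := by
      have : K.d * K.e⁻¹ = K.b * K.b := by
        rw [Cfg.d, Cfg.e, mul_inv_rev, inv_inv]
        calc K.x * K.b * (K.b * K.x⁻¹) = K.x * (K.b * K.b) * K.x⁻¹ := by group
          _ = K.b * K.b := by rw [(K.hbx.symm.mul_right K.hbx.symm).eq, mul_inv_cancel_right]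
      rw [this, ← pow_two, ← pow_mul, show 2 * 2 = 3 + 1 from rfl, pow_succ, K.hb, one_mul]
    have hx' : K.x = (K.d * K.e) ^ 2 := by
      have : K.d * K.e = K.x * K.x := by
        rw [Cfg.d, Cfg.e, mul_assoc, ← mul_assoc K.b, ← K.hbx.symm.eq]; group
      rw [this, ← pow_two, ← pow_mul, show 2 * 2 = 3 + 1 from rfl, pow_succ, K.hx, one_mul]
    have a0R : a0 ∈ X.PR := by
      refine X.mem_PR.2 ⟨⟨by simpa using odd_orderOf_conj θ⁻¹ (K.A_odd a2A), ?_⟩, ?_, ?_, hAt _ (Or.inr rfl)⟩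
      · have e : θ⁻¹ * K.t * θ = K.z := by rw [← hθz]; group
        rw [ha0, ← e, show θ⁻¹ * K.t * θ * (θ⁻¹ * a2 * θ) * (θ⁻¹ * K.t * θ)⁻¹ = θ⁻¹ * (K.t * a2 * K.t⁻¹) * θ by group,
          a2t]
        group
      · rw [hb']; exact (a0d.mul_right (hAt _ (Or.inl rfl)).inv_right).pow_right 2
      · rw [hx']; exact (a0d.mul_right (hAt _ (Or.inl rfl))).pow_right 2
    have a0tz : Commute a0 (K.t * K.z) := by
      have := commute_conj θ⁻¹ a2z
      rw [inv_inv] at this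
      convert this using 1
      nth_rw 2 [← hθtz]; group
    obtain ⟨p, hp⟩ := gen1 _ a0R a0tz
    have ha21 : a2 = a1 ^ p := by rw [ha1, conj_pow, ← hp, ha0]; group
    have a13 : a1 ^ 3 = 1 := by
      rw [ha1, conj_pow, hr1, conj_pow, X.P1t_small.2 _ (X.PRt_le_P1t hr0)]; simp
    by_cases hp3 : p % 3 = 0
    · refine hr01 ?_
      have h0 : a2 = 1 := by rw [ha21, ← Nat.div_add_mod p 3, hp3, add_zero, pow_mul, a13, one_pow]
      rw [ha2, conj_eq_one_iff, conj_eq_one_iff] at h0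
      exact h0
    · refine hne p ?_
      rw [ha21, ← pow_mul]
      have : p * p % 3 = 1 := by
        rw [Nat.mul_mod]
        rcases (show p % 3 = 1 ∨ p % 3 = 2 by omega) with e | e <;> rw [e]
      rw [show p * p = 3 * (p * p / 3) + 1 by omega, pow_succ, pow_mul, a13, one_pow, one_mul]
  · -- `|R_t| = 9`
    have hP2 : Nat.card X.P2 = 9 := by
      rcases X.card_cases.2 with h | h | h
      · have := X.ineq_one; rw [X.card_P1, hc, h] at this; norm_num at this
      · have := X.ineq_one; rw [X.card_P1, hc, h] at this; norm_num at this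
      · exact h
    have hV9 : Nat.card Vt ≤ 9 := Nat.le_of_dvd (by norm_num) hVt9
    have eV1 : X.P1t = Vt := Subgroup.eq_of_le_of_card_ge hP1le (by omega)
    have eV2 : X.P2 = Vt := Subgroup.eq_of_le_of_card_ge hP2le (by omega)
    have hfix : ∀ q : X.V, X.τ q = q → q ∈ fixG X.ax := by
      intro q hq
      set w := X.rp q with hw
      have hwt : Commute X.t' w := (X.av_eq X.nb_t' q).1 hq
      set σ0 := K.s⁻¹ * w * K.s with hσ0
      have hst : Commute σ0 K.t := by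
        have := commute_conj K.s⁻¹ hwt.symm
        rw [inv_inv] at this
        convert this using 1
        rw [t']; group
      have hsV : ∀ ρ ∈ Vt, Commute σ0 ρ := by
        intro ρ hρ
        obtain ⟨hi, hy, -, ht⟩ := X.mem_P2.1 (eV2 ▸ hρ)
        have hρ1 : ρ ∈ X.P1t := eV1 ▸ hρ
        obtain ⟨-, hb, hx, -⟩ := X.mem_P1t.1 hρ1
        set ρ' := K.s * ρ * K.s⁻¹ with hρ'
        have hb' : Commute ρ' K.b := by have := commute_conj K.s hy; rwa [K.s_y] at this
        have ht' : Commute ρ' X.t' := commute_conj K.s ht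
        obtain ⟨q', hq'⟩ := X.rp_of (K.inv_conj K.hzs.symm hi) hb'
        -- the commutator lies in `⟨b⟩` and commutes with `t'`
        set m := w * ρ' * w⁻¹ * ρ'⁻¹ with hm
        have hmem : ∃ k : ℤ, K.b ^ k = m := by
          have hρW : ρ' ∈ X.W := by rw [hρ', ← hq']; exact X.core.rep_mem X.small q'
          let a : X.W := ⟨w, X.core.rep_mem X.small q⟩
          let c : X.W := ⟨ρ', hρW⟩
          have e : ((1 : X.W) : X.V) = ((a * c * a⁻¹ * c⁻¹ : X.W) : X.V) := by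
            rw [QuotientGroup.mk_mul, QuotientGroup.mk_mul, QuotientGroup.mk_mul, QuotientGroup.mk_inv,
              QuotientGroup.mk_inv, QuotientGroup.mk_one]
            rw [X.core.mul_comm_Q X.small (a : X.V), mul_inv_cancel_right, mul_inv_cancel]
          obtain ⟨k, hk⟩ := X.core.mk_eq_iff.1 e
          exact ⟨k, by simpa [a, c, hm] using hk⟩
        obtain ⟨k, hk⟩ := hmem
        have h1 : X.t' * m * X.t'⁻¹ = m := by
          have hc : Commute X.t' m := ((hwt.mul_right ht'.symm).mul_right hwt.inv_right).mul_right ht'.symm.inv_right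
          rw [hc.eq, mul_inv_cancel_right]
        have h2 : X.t' * m * X.t'⁻¹ = m⁻¹ := by rw [← hk, ← conj_zpow, X.t'_b, inv_zpow]
        have h3 : m = 1 := by
          refine eq_one_of_inv_self ?_ (h2.symm.trans h1)
          refine Odd.of_dvd_nat (n := 3) (by decide) (orderOf_dvd_of_pow_eq_one ?_)
          rw [← hk, ← zpow_natCast, ← zpow_mul, mul_comm, zpow_mul, zpow_natCast, K.hb, one_zpow]
        rw [hm, mul_inv_eq_one, mul_inv_eq_iff_eq_mul] at h3
        have h4 := commute_conj K.s⁻¹ (show Commute w ρ' from h3)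
        rw [inv_inv] at h4
        convert h4 using 1
        rw [hρ']; group
      -- pull back to `C(z)`
      set σ := g₀⁻¹ * σ0 * g₀ with hσ
      have hσo : Odd (orderOf σ) := by
        simpa [hσ, hσ0] using odd_orderOf_conj g₀⁻¹ (odd_orderOf_conj K.s⁻¹ (X.rp_Inv q).1)
      have hσz : Commute σ K.z := by
        have := commute_conj g₀⁻¹ hst
        rw [inv_inv] at this
        convert this using 1
        rw [← hg₀.1]; group
      obtain ⟨hw1, hw2⟩ := K.pull_comm hfz K.hzt K.hzd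
      have hwne : g₀⁻¹ * K.z * g₀ ≠ K.z := fun e => K.htz (by
        calc K.t = g₀ * K.z * g₀⁻¹ := hg₀.1.symm
          _ = g₀ * (g₀⁻¹ * K.z * g₀) * g₀⁻¹ := by rw [e]
          _ = K.z := by group)
      have hi0 : orderOf (g₀⁻¹ * K.z * g₀) = 2 := by
        rw [show g₀⁻¹ * K.z * g₀ = MulAut.conj g₀⁻¹ K.z by simp, MulEquiv.orderOf_eq, K.hz]
      obtain ⟨c, hcz, hcd, hc'⟩ := K.pairs _ hi0 hwne hw1 hw2
      have key : ∀ a, (a = K.e ∨ a = K.y) → Commute (c * σ * c⁻¹) a := by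
        intro a ha
        have haA : a ∈ K.A := by rcases ha with rfl | rfl; exacts [K.e_mem, K.y_mem]
        set a' := c⁻¹ * a * c with ha'
        have ha'A : a' ∈ K.A := by
          refine hA _ (by simpa [ha'] using odd_orderOf_conj c⁻¹ (K.A_odd haA)) ?_ ?_
          · rw [ha']; exact (hcz.inv_left.mul_left (K.A_z haA).symm).mul_left hcz
          · rw [ha']; exact ((show Commute c K.d from hcd).inv_left.mul_left (K.A_comm haA K.d_mem)).mul_left hcd
        have htt : ∀ w' : G, (w' = K.t ∨ w' = K.t * K.z) → w' * a * w'⁻¹ = a⁻¹ := by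
          rintro w' (rfl | rfl)
          · rcases ha with rfl | rfl
            exacts [K.t_e, K.t_y]
          · rw [show K.t * K.z * a * (K.t * K.z)⁻¹ = K.t * (K.z * a * K.z⁻¹) * K.t⁻¹ by group, (K.A_z haA).eq,
              mul_inv_cancel_right]
            rcases ha with rfl | rfl
            exacts [K.t_e, K.t_y]
        have hmem : g₀ * a' * g₀⁻¹ ∈ Vt := by
          refine ⟨by rw [show g₀⁻¹ * (g₀ * a' * g₀⁻¹) * g₀ = a' by group]; exact ha'A, ?_⟩
          have e := htt _ hc'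
          calc K.z * (g₀ * a' * g₀⁻¹) * K.z⁻¹ = g₀ * c⁻¹ * ((c * (g₀⁻¹ * K.z * g₀) * c⁻¹) * a *
              (c * (g₀⁻¹ * K.z * g₀) * c⁻¹)⁻¹) * c * g₀⁻¹ := by rw [ha']; group
            _ = _ := by rw [e, ha']; group
        have := commute_conj (c * g₀⁻¹) (hsV _ hmem)
        convert this using 1
        · rw [hσ]; group
        · rw [ha']; group
      have hc2 : c * σ * c⁻¹ ∈ K.A := K.cent_ey _ (odd_orderOf_conj c hσo)
        ((hcz.mul_left hσz).mul_left hcz.inv_left) (key _ (Or.inl rfl)) (key _ (Or.inr rfl))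
      have hσd : Commute σ K.d := by
        have := commute_conj c⁻¹ (K.A_comm hc2 K.d_mem)
        rw [inv_inv] at this
        convert this using 1
        · group
        · rw [mul_assoc, ← (show Commute c K.d from hcd).eq, inv_mul_cancel_left]
      have hσ0d : Commute σ0 K.d := by
        have := commute_conj g₀ hσd
        rw [hfz.2] at this
        convert this using 1
        rw [hσ]; group
      have hσ0P : σ0 ∈ X.P2 := by
        refine X.mem_P2.2 ⟨by simpa [hσ0] using K.inv_conj K.hzs.symm.inv_left (X.rp_Inv q), ?_, hσ0d, hst⟩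
        have := commute_conj K.s⁻¹ (X.rp_b q)
        rw [inv_inv] at this
        convert this using 1
        rw [← K.s_y]; group
      obtain ⟨-, hb, -, -⟩ := X.mem_P1t.1 (eV1 ▸ eV2 ▸ hσ0P)
      refine (X.mem_fix X.rp_ax q).2 ?_
      have := commute_conj K.s hb
      rw [K.s_b] at this
      have e : K.s * σ0 * K.s⁻¹ = w := by rw [hσ0]; group
      rw [e] at this
      exact this.symm
    -- so everything is fixed by `x`
    have stable : ∀ q : X.V, q ∈ fixG X.ax ⊓ fixG X.ay → X.η q ∈ fixG X.ax ⊓ fixG X.ay := by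
      rintro q ⟨h1, h2⟩
      refine ⟨(X.mem_fix X.rp_ax _).2 ?_, (X.mem_fix X.rp_ay _).2 ?_⟩
      · rw [η, X.rp_av]
        have := commute_conj X.h' ((X.mem_fix X.rp_ay q).1 h2)
        rw [X.h'_y] at this
        simpa using this.inv_left
      · rw [η, X.rp_av]
        have := commute_conj X.h' ((X.mem_fix X.rp_ax q).1 h1)
        rw [X.h'_x] at this
        simpa using this.inv_left
    have hfixy : ∀ q : X.V, X.τ q = q → q ∈ fixG X.ay := by
      intro q hq
      have h1 := hfix q hq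
      rw [X.mem_fix X.rp_ay]
      have := commute_conj X.t' ((X.mem_fix X.rp_ax q).1 h1)
      rwa [X.t'_x, ← X.rp_av X.nb_t', show X.av X.t' X.nb_t' q = q from hq] at this
    have hall : ∀ q : X.V, X.ax q = q := by
      intro q
      have hu : X.τ (q * X.τ q) = q * X.τ q := by rw [map_mul, X.τ_twice, mul_comm]
      have hv : X.τ (q * (X.τ q)⁻¹) = (q * (X.τ q)⁻¹)⁻¹ := by
        rw [map_mul, map_inv, X.τ_twice, mul_inv_rev, inv_inv]
      have hv' : X.τ (X.η (q * (X.τ q)⁻¹)) = X.η (q * (X.τ q)⁻¹) := by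
        have h := X.ητ (q * (X.τ q)⁻¹)
        rw [hv, map_inv] at h
        exact (inv_inj.1 h).symm
      have hw : q * (X.τ q)⁻¹ ∈ fixG X.ax := by
        have hinj : Function.Injective (fun f : ↥(fixG X.ax ⊓ fixG X.ay) =>
            (⟨X.η f, stable _ f.2⟩ : ↥(fixG X.ax ⊓ fixG X.ay))) := fun a b e =>
          Subtype.ext (X.η.injective (congrArg Subtype.val e))
        obtain ⟨f, hf⟩ := Finite.surjective_of_injective hinj
          ⟨X.η (q * (X.τ q)⁻¹), hfix _ hv', hfixy _ hv'⟩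
        have e : (f : X.V) = q * (X.τ q)⁻¹ := X.η.injective (congrArg Subtype.val hf)
        exact e ▸ f.2.1
      have h2 := (fixG X.ax).mul_mem (hfix _ hu) hw
      rw [show q * X.τ q * (q * (X.τ q)⁻¹) = q * q by rw [mul_mul_mul_comm, mul_inv_cancel, mul_one]] at h2
      have h9 := X.pow_nine q
      have e : q = (q * q) ^ 5 := by rw [← pow_two, ← pow_mul, show 2 * 5 = 9 + 1 from rfl, pow_succ, h9, one_mul]
      rw [e]
      exact (fixG X.ax).pow_mem h2 5
    obtain ⟨γ, hγ⟩ := X.disjoint_conj K.x K.hzx.symm K.hbx.symm X.ax X.rp_ax K.gen_x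
    refine hq₀ (hγ q₀ (hall q₀) ?_)
    rw [MulAut.mul_apply, MulAut.mul_apply, hall, MulAut.apply_inv_self]

end Ctx

end H33.TwoAn
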