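import Cfsg.Agent.H33.TwoAn.LocalBase

/-!
Degrees nine and ten: orders of the inverted parts, counted in `W/⟨b⟩`.
-/

set_option autoImplicit false
set_option linter.unusedSectionVars false

namespace H33.TwoAn

universe u

variable {G : Type u} [Group G] [Finite G] {K : Cfg G}

/-- The odd core of `C(b)`. -/
structure Ctx (K : Cfg G) where
  W : Subgroup G
  core : Core K.z K.b W
  small : Small K.z K.b W

theorem exists_ctx (K : Cfg G) : Nonempty (Ctx K) := by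
  obtain ⟨W, hW⟩ := exists_core K.hz K.hb K.hzb K.iso_b
  refine ⟨⟨W, hW, fun r hr hc => ?_⟩⟩
  let N : Subgroup G := W ⊓ Subgroup.centralizer ({K.z} : Set G)
  refine K.core_b N ?_ (fun r hr => ⟨Subgroup.mem_centralizer_singleton_iff.1 hr.2, hW.comm r hr.1⟩)
    ?_ ⟨hr, Subgroup.mem_centralizer_singleton_iff.2 hc.eq⟩
  · rw [Nat.odd_iff]
    by_contra h
    have h2 : 2 ∣ Nat.card N := by omega
    have : Fact (Nat.Prime 2) := ⟨Nat.prime_two⟩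
    obtain ⟨r, hr⟩ := exists_prime_orderOf_dvd_card' (G := N) 2 h2
    have := hW.odd r r.2.1
    rw [Subgroup.orderOf_coe, hr] at this
    exact absurd this (by decide)
  · intro c hcz hcb r hr
    refine ⟨hW.norm c (Or.inl (by rw [hcb.eq, mul_inv_cancel_right])) r hr.1, ?_⟩
    apply Subgroup.mem_centralizer_singleton_iff.2
    exact ((hcz.mul_left (Subgroup.mem_centralizer_singleton_iff.1 hr.2)).mul_left hcz.inv_left).eq

namespace Ctx

variable (X : Ctx K)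

/-- `W` moved to `x`. -/
def Wx : Subgroup G := X.W.map (MulAut.conj K.s).toMonoidHom

/-- `W` moved to `y`. -/
def Wy : Subgroup G := X.W.map (MulAut.conj (K.s * K.s)).toMonoidHom

theorem sy : K.s * K.s * K.b * (K.s * K.s)⁻¹ = K.y := by
  rw [mul_inv_rev, show K.s * K.s * K.b * (K.s⁻¹ * K.s⁻¹) = K.s * (K.s * K.b * K.s⁻¹) * K.s⁻¹ by group, K.s_b, K.s_x]

theorem map_facts (σ c : G) (hσ : Commute σ K.z) (hc : σ * K.b * σ⁻¹ = c) {r : G} :
    (r ∈ X.W.map (MulAut.conj σ).toMonoidHom → Odd (orderOf r) ∧ Commute r c ∧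
      (Commute r K.z → r ∈ Subgroup.zpowers c) ∧ K.z * r * K.z⁻¹ ∈ X.W.map (MulAut.conj σ).toMonoidHom) ∧
    (K.Inv r → Commute r c → r ∈ X.W.map (MulAut.conj σ).toMonoidHom) := by
  have hzσ : K.z * σ = σ * K.z := hσ.eq.symm
  have hzσ' : σ⁻¹ * K.z⁻¹ = K.z⁻¹ * σ⁻¹ := by rw [← mul_inv_rev, hzσ, mul_inv_rev]
  constructor
  · rintro ⟨w, hw, rfl⟩
    refine ⟨odd_orderOf_conj σ (X.core.odd w hw), hc ▸ commute_conj σ (X.core.comm w hw), fun h => ?_,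
      ⟨K.z * w * K.z⁻¹, X.core.z_conj_mem hw, ?_⟩⟩
    · have h' : Commute w K.z := by
        have := commute_conj σ⁻¹ h
        have ez : σ⁻¹ * K.z * σ⁻¹⁻¹ = K.z := by rw [inv_inv, mul_assoc, ← hσ.eq, inv_mul_cancel_left]
        rw [ez] at this
        convert this using 1
        simp [mul_assoc]
      obtain ⟨m, hm⟩ := X.small w hw h'
      refine ⟨m, ?_⟩
      show c ^ m = σ * w * σ⁻¹
      rw [← hc, conj_zpow]
      exact congrArg (fun v => σ * v * σ⁻¹) hm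
    · show σ * (K.z * w * K.z⁻¹) * σ⁻¹ = K.z * (σ * w * σ⁻¹) * K.z⁻¹
      calc σ * (K.z * w * K.z⁻¹) * σ⁻¹ = (σ * K.z) * w * (K.z⁻¹ * σ⁻¹) := by group
        _ = (K.z * σ) * w * (σ⁻¹ * K.z⁻¹) := by rw [hzσ, hzσ']
        _ = _ := by group
  · intro hr hrc
    refine ⟨σ⁻¹ * r * σ, X.core.inv_mem _ ?_ ?_ ?_, by simp [mul_assoc]⟩
    · simpa using odd_orderOf_conj σ⁻¹ hr.1
    · have := commute_conj σ⁻¹ hrc
      rw [inv_inv] at this
      convert this using 1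
      rw [← hc]; group
    · simpa using (K.inv_conj hσ.inv_left hr).2

/-- Inverted elements commuting with `b` and `x`. -/
def P1 : Subgroup G := X.W ⊓ X.Wx

theorem mem_P1 {r : G} : r ∈ X.P1 ↔ K.Inv r ∧ Commute r K.b ∧ Commute r K.x := by
  have hsub : ∀ r ∈ X.P1, K.z * r * K.z⁻¹ ∈ X.P1 := fun r hr =>
    ⟨X.core.z_conj_mem hr.1, ((X.map_facts K.s K.x K.hzs.symm K.s_b).1 hr.2).2.2.2⟩
  have hfix : ∀ r ∈ X.P1, Commute r K.z → r = 1 := by
    intro r hr hc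
    obtain ⟨m, hm⟩ := X.small r hr.1 hc
    obtain ⟨n, hn⟩ := ((X.map_facts K.s K.x K.hzs.symm K.s_b).1 hr.2).2.2.1 hc
    have key : ∀ (a : G), a ^ 3 = 1 → ∀ m : ℤ, ∃ i : Fin 3, a ^ m = a ^ (i : ℕ) := fun a ha m => by
      refine ⟨⟨(m % 3).toNat, by omega⟩, ?_⟩
      show a ^ m = a ^ (m % 3).toNat
      rw [← zpow_natCast, Int.toNat_of_nonneg (Int.emod_nonneg _ (by norm_num))]
      have e0 : m = m % 3 + 3 * (m / 3) := by omega
      conv_lhs => rw [e0, zpow_add, zpow_mul, show a ^ (3 : ℤ) = 1 by exact_mod_cast ha, one_zpow, mul_one]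
    obtain ⟨i, hi⟩ := key K.b K.hb m
    obtain ⟨j, hj⟩ := key K.x K.hx n
    have e1 : r = K.b ^ (i : ℕ) := hi ▸ hm.symm
    have e2 : r = K.x ^ (j : ℕ) := hj ▸ hn.symm
    have := K.exps_inj (i := i) (j := 0) (k := 0) (i' := 0) (j' := j) (k' := 0)
      (by simp only [Fin.val_zero, pow_zero, mul_one, one_mul]; rw [← e1, ← e2])
    rw [e1, this.1]; simp
  constructor
  · intro hr
    obtain ⟨hi, -⟩ := all_inv K.hz X.P1 (fun r hr => X.core.odd r hr.1) hsub hfix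
    exact ⟨⟨X.core.odd r hr.1, hi r hr⟩, X.core.comm r hr.1, ((X.map_facts K.s K.x K.hzs.symm K.s_b).1 hr.2).2.1⟩
  · rintro ⟨hi, hb, hx⟩
    exact ⟨X.core.inv_mem r hi.1 hb hi.2, (X.map_facts K.s K.x K.hzs.symm K.s_b).2 hi hx⟩

theorem P1_comm : ∀ r ∈ X.P1, ∀ r' ∈ X.P1, Commute r r' :=
  (all_inv K.hz X.P1 (fun r hr => X.core.odd r hr.1)
    (fun r hr => ⟨X.core.z_conj_mem hr.1, ((X.map_facts K.s K.x K.hzs.symm K.s_b).1 hr.2).2.2.2⟩)
    fun r hr hc => K.inv_eq_one (X.mem_P1.1 hr).1 hc.symm).2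

/-- Inverted elements commuting with `b`, `x` and `y`. -/
def PR : Subgroup G := X.P1 ⊓ Subgroup.centralizer ({K.y} : Set G)

theorem mem_PR {r : G} : r ∈ X.PR ↔ K.Inv r ∧ Commute r K.b ∧ Commute r K.x ∧ Commute r K.y := by
  rw [PR, Subgroup.mem_inf, mem_P1, Subgroup.mem_centralizer_singleton_iff]
  exact ⟨fun h => ⟨h.1.1, h.1.2.1, h.1.2.2, h.2⟩, fun h => ⟨⟨h.1, h.2.1, h.2.2.1⟩, h.2.2.2.eq⟩⟩

/-- Inverted elements commuting with `y`, `d` and `t`. -/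
def P2 : Subgroup G :=
  X.Wy ⊓ Subgroup.centralizer ({K.d} : Set G) ⊓ Subgroup.centralizer ({K.t} : Set G)

theorem mem_P2 {r : G} : r ∈ X.P2 ↔ K.Inv r ∧ Commute r K.y ∧ Commute r K.d ∧ Commute r K.t := by
  have hσ : Commute (K.s * K.s) K.z := K.hzs.symm.mul_left K.hzs.symm
  have hsub : ∀ r ∈ X.P2, K.z * r * K.z⁻¹ ∈ X.P2 := by
    intro r hr
    refine ⟨⟨((X.map_facts _ K.y hσ sy).1 hr.1.1).2.2.2, ?_⟩, ?_⟩
    · apply Subgroup.mem_centralizer_singleton_iff.2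
      exact ((K.hzd.mul_left (Subgroup.mem_centralizer_singleton_iff.1 hr.1.2)).mul_left K.hzd.inv_left).eq
    · apply Subgroup.mem_centralizer_singleton_iff.2
      exact ((K.hzt.mul_left (Subgroup.mem_centralizer_singleton_iff.1 hr.2)).mul_left K.hzt.inv_left).eq
  have hfix : ∀ r ∈ X.P2, Commute r K.z → r = 1 := by
    intro r hr hc
    obtain ⟨n, hn⟩ := ((X.map_facts _ K.y hσ sy).1 hr.1.1).2.2.1 hc
    have ht : K.t * r * K.t⁻¹ = r := by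
      rw [(Subgroup.mem_centralizer_singleton_iff.1 hr.2).symm, mul_inv_cancel_right]
    refine eq_one_of_inv_self ((X.map_facts _ K.y hσ sy).1 hr.1.1).1 ?_
    have hn' : K.y ^ n = r := hn
    conv_rhs => rw [← ht, ← hn', ← conj_zpow, K.t_y, inv_zpow, hn']
  constructor
  · intro hr
    obtain ⟨hi, -⟩ := all_inv K.hz X.P2 (fun r hr => ((X.map_facts _ K.y hσ sy).1 hr.1.1).1) hsub hfix
    exact ⟨⟨((X.map_facts _ K.y hσ sy).1 hr.1.1).1, hi r hr⟩, ((X.map_facts _ K.y hσ sy).1 hr.1.1).2.1,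
      Subgroup.mem_centralizer_singleton_iff.1 hr.1.2, Subgroup.mem_centralizer_singleton_iff.1 hr.2⟩
  · rintro ⟨hi, hy, hd, ht⟩
    exact ⟨⟨(X.map_facts _ K.y hσ sy).2 hi hy, Subgroup.mem_centralizer_singleton_iff.2 hd.eq⟩,
      Subgroup.mem_centralizer_singleton_iff.2 ht.eq⟩

theorem P2_comm : ∀ r ∈ X.P2, ∀ r' ∈ X.P2, Commute r r' := by
  intro r hr r' hr'
  have e := (X.mem_P2.1 (X.P2.mul_mem hr hr')).1.2
  rw [show K.z * (r * r') * K.z⁻¹ = K.z * r * K.z⁻¹ * (K.z * r' * K.z⁻¹) by group, (X.mem_P2.1 hr).1.2,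
    (X.mem_P2.1 hr').1.2, ← mul_inv_rev, inv_inj] at e
  exact e.symm

/-- The part centralised by `t`. -/
def P1t : Subgroup G := X.P1 ⊓ Subgroup.centralizer ({K.t} : Set G)

/-- The part of `PR` centralised by `t`. -/
def PRt : Subgroup G := X.PR ⊓ Subgroup.centralizer ({K.t} : Set G)

theorem mem_P1t {r : G} : r ∈ X.P1t ↔ K.Inv r ∧ Commute r K.b ∧ Commute r K.x ∧ Commute r K.t := by
  rw [P1t, Subgroup.mem_inf, mem_P1, Subgroup.mem_centralizer_singleton_iff]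
  exact ⟨fun h => ⟨h.1.1, h.1.2.1, h.1.2.2, h.2⟩, fun h => ⟨⟨h.1, h.2.1, h.2.2.1⟩, h.2.2.2.eq⟩⟩

theorem mem_PRt {r : G} :
    r ∈ X.PRt ↔ K.Inv r ∧ Commute r K.b ∧ Commute r K.x ∧ Commute r K.y ∧ Commute r K.t := by
  rw [PRt, Subgroup.mem_inf, mem_PR, Subgroup.mem_centralizer_singleton_iff]
  exact ⟨fun h => ⟨h.1.1, h.1.2.1, h.1.2.2.1, h.1.2.2.2, h.2⟩,
    fun h => ⟨⟨h.1, h.2.1, h.2.2.1, h.2.2.2.1⟩, h.2.2.2.2.eq⟩⟩

theorem P1t_small : Nat.card X.P1t ∣ 9 ∧ ∀ r ∈ X.P1t, r ^ 3 = 1 := by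
  obtain ⟨g, hg⟩ := K.fuse
  obtain ⟨-, h1, h2, -⟩ := K.small_inverted (i := K.t) (g := g) hg X.P1t (fun r hr => (X.mem_P1t.1 hr).1)
    (fun r hr => ⟨(X.mem_P1t.1 hr).2.2.2, (X.mem_P1t.1 hr).2.2.1.mul_right (X.mem_P1t.1 hr).2.1⟩)
    (fun r hr r' hr' => X.P1_comm r hr.1 r' hr'.1) K.td.symm
  exact ⟨h1, h2⟩

theorem P2_small : Nat.card X.P2 ∣ 9 ∧ ∀ r ∈ X.P2, r ^ 3 = 1 := by
  obtain ⟨g, hg⟩ := K.fuse
  obtain ⟨-, h1, h2, -⟩ := K.small_inverted (i := K.t) (g := g) hg X.P2 (fun r hr => (X.mem_P2.1 hr).1)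
    (fun r hr => ⟨(X.mem_P2.1 hr).2.2.2, (X.mem_P2.1 hr).2.2.1⟩) X.P2_comm K.td.symm
  exact ⟨h1, h2⟩

theorem rel_conj {r : G} (hr : K.Inv r) :
    K.h * (K.t * r * K.t⁻¹) * K.h⁻¹ = (K.t * (K.h * r * K.h⁻¹) * K.t⁻¹)⁻¹ := by
  have hi := (K.inv_conj K.hzh.symm hr).2
  calc K.h * (K.t * r * K.t⁻¹) * K.h⁻¹ = (K.h * K.t * K.h⁻¹) * (K.h * r * K.h⁻¹) * (K.h * K.t * K.h⁻¹)⁻¹ := by group
    _ = K.t * (K.z * (K.h * r * K.h⁻¹) * K.z⁻¹) * K.t⁻¹ := by rw [K.h_t]; group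
    _ = _ := by rw [hi]; group

theorem conj_h_P1 {r : G} (hr : r ∈ X.P1) : K.h * r * K.h⁻¹ ∈ X.P1 := by
  obtain ⟨hi, hb, hx⟩ := X.mem_P1.1 hr
  refine X.mem_P1.2 ⟨K.inv_conj K.hzh.symm hi, ?_, ?_⟩
  · have := commute_conj K.h hx; rw [K.h_x] at this; simpa using this.inv_right
  · have := commute_conj K.h hb; rw [K.h_b] at this; simpa using this.inv_right

theorem conj_t_P1 {r : G} (hr : r ∈ X.P1) : K.t * r * K.t⁻¹ ∈ X.P1 := by
  obtain ⟨hi, hb, hx⟩ := X.mem_P1.1 hr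
  refine X.mem_P1.2 ⟨K.inv_conj K.hzt.symm hi, ?_, ?_⟩
  · have := commute_conj K.t hx; rwa [K.t_x] at this
  · have := commute_conj K.t hb; rwa [K.t_b] at this

theorem conj_h_PR {r : G} (hr : r ∈ X.PR) : K.h * r * K.h⁻¹ ∈ X.PR := by
  refine ⟨X.conj_h_P1 hr.1, Subgroup.mem_centralizer_singleton_iff.2 ?_⟩
  have := commute_conj K.h (X.mem_PR.1 hr).2.2.2
  rw [K.h_y] at this
  exact (by simpa using this.inv_right : Commute _ K.y).eq

theorem conj_t_PR {r : G} (hr : r ∈ X.PR) : K.t * r * K.t⁻¹ ∈ X.PR := by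
  refine ⟨X.conj_t_P1 hr.1, Subgroup.mem_centralizer_singleton_iff.2 ?_⟩
  have := commute_conj K.t (X.mem_PR.1 hr).2.2.2
  rw [K.t_y] at this
  exact (by simpa using this.inv_right : Commute _ K.y).eq

theorem inf_fixE (S : Subgroup G) :
    S ⊓ fixE (MulAut.conj K.t) = S ⊓ Subgroup.centralizer ({K.t} : Set G) := by
  ext r
  simp only [Subgroup.mem_inf, mem_fixE, MulAut.conj_apply, Subgroup.mem_centralizer_singleton_iff,
    mul_inv_eq_iff_eq_mul]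
  exact and_congr_right fun _ => eq_comm

theorem conj_t_twice (r : G) : K.t * (K.t * r * K.t⁻¹) * K.t⁻¹ = r := by
  rw [inv_of_two K.ht, show K.t * (K.t * r * K.t) * K.t = (K.t * K.t) * r * (K.t * K.t) by group, sq_eq_one_of K.ht,
    one_mul, mul_one]

theorem card_P1 : Nat.card X.P1 = Nat.card X.P1t ^ 2 := by
  rw [card_split X.P1 (fun r hr => (X.mem_P1.1 hr).1.1) X.P1_comm (MulAut.conj K.t) (MulAut.conj K.h)
    (fun r hr => X.conj_t_P1 hr) (fun r hr => X.conj_h_P1 hr) (fun r _ => conj_t_twice r)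
    (fun r hr => rel_conj (X.mem_P1.1 hr).1), inf_fixE]
  rfl

theorem card_PR : Nat.card X.PR = Nat.card X.PRt ^ 2 := by
  rw [card_split X.PR (fun r hr => (X.mem_PR.1 hr).1.1) (fun r hr r' hr' => X.P1_comm r hr.1 r' hr'.1)
    (MulAut.conj K.t) (MulAut.conj K.h)
    (fun r hr => X.conj_t_PR hr) (fun r hr => X.conj_h_PR hr) (fun r _ => conj_t_twice r)
    (fun r hr => rel_conj (X.mem_PR.1 hr).1), inf_fixE]
  rfl

theorem P1_cube : ∀ r ∈ X.P1, r ^ 3 = 1 :=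
  cube_of_split X.P1 (fun r hr => (X.mem_P1.1 hr).1.1) X.P1_comm (MulAut.conj K.t) (MulAut.conj K.h)
    (fun r hr => X.conj_t_P1 hr) (fun r hr => X.conj_h_P1 hr) (fun r _ => conj_t_twice r)
    (fun r hr => rel_conj (X.mem_P1.1 hr).1) fun r hr h => by
      refine X.P1t_small.2 r ⟨hr, ?_⟩
      apply Subgroup.mem_centralizer_singleton_iff.2
      exact (mul_inv_eq_iff_eq_mul.1 h).symm

end Ctx

end H33.TwoAn
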