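import Cfsg.Agent.H33.TwoAn.LocalParts

/-!
Degrees nine and ten: the inequalities between the orders of the inverted parts.
-/

set_option autoImplicit false
set_option linter.unusedSectionVars false
set_option linter.style.haveILetI false

namespace H33.TwoAn

universe u

variable {G : Type u} [Group G] [Finite G] {K : Cfg G}

namespace Ctx

variable (X : Ctx K)

/-- `W/⟨b⟩`. -/
abbrev V : Type u := X.core.Q

noncomputable instance commV : CommGroup X.V := X.core.commQ X.small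

/-- The inverted representative. -/
noncomputable abbrev rp (q : X.V) : G := X.core.rep X.small q

theorem nb_of_commute {g : G} (hz : Commute g K.z) (hb : Commute g K.b) : Nb K.z K.b g :=
  ⟨hz, Or.inl (by rw [hb.eq, mul_inv_cancel_right])⟩

theorem nb_x : Nb K.z K.b K.x := nb_of_commute K.hzx.symm K.hbx.symm
theorem nb_y : Nb K.z K.b K.y := nb_of_commute K.hzy.symm K.hby.symm
theorem nb_xy : Nb K.z K.b (K.x * K.y) :=
  nb_of_commute (K.hzx.symm.mul_left K.hzy.symm) (K.hbx.symm.mul_left K.hby.symm)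

/-- `t` moved by `s`. -/
def t' (_X : Ctx K) : G := K.s * K.t * K.s⁻¹

/-- `h` moved by `s`. -/
def h' (_X : Ctx K) : G := K.s * K.h * K.s⁻¹

theorem t'_z : Commute X.t' K.z := ((K.hzs.symm.mul_left K.hzt.symm).mul_left K.hzs.symm.inv_left)
theorem h'_z : Commute X.h' K.z := ((K.hzs.symm.mul_left K.hzh.symm).mul_left K.hzs.symm.inv_left)

theorem s_conj (a c : G) : (K.s * a * K.s⁻¹) * (K.s * c * K.s⁻¹) * (K.s * a * K.s⁻¹)⁻¹ =
    K.s * (a * c * a⁻¹) * K.s⁻¹ := by group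

theorem t'_b : X.t' * K.b * X.t'⁻¹ = K.b⁻¹ := by
  nth_rw 1 [← K.s_y]
  rw [t', s_conj, K.t_y, ← K.s_y]; group

theorem t'_x : X.t' * K.x * X.t'⁻¹ = K.y := by
  nth_rw 1 [← K.s_b]
  rw [t', s_conj, K.t_b, K.s_x]

theorem t'_y : X.t' * K.y * X.t'⁻¹ = K.x := by
  nth_rw 1 [← K.s_x]
  rw [t', s_conj, K.t_x, K.s_b]

theorem h'_b : X.h' * K.b * X.h'⁻¹ = K.b⁻¹ := by
  nth_rw 1 [← K.s_y]
  rw [h', s_conj, K.h_y, ← K.s_y]; group

theorem h'_x : X.h' * K.x * X.h'⁻¹ = K.y⁻¹ := by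
  nth_rw 1 [← K.s_b]
  rw [h', s_conj, K.h_b, ← K.s_x]; group

theorem h'_y : X.h' * K.y * X.h'⁻¹ = K.x⁻¹ := by
  nth_rw 1 [← K.s_x]
  rw [h', s_conj, K.h_x, ← K.s_b]; group

theorem nb_t' : Nb K.z K.b X.t' := ⟨X.t'_z, Or.inr X.t'_b⟩
theorem nb_h' : Nb K.z K.b X.h' := ⟨X.h'_z, Or.inr X.h'_b⟩

/-- The action on `V`. -/
noncomputable abbrev av (g : G) (hg : Nb K.z K.b g) : MulAut X.V := X.core.act X.small g hg

theorem rp_av {g : G} (hg : Nb K.z K.b g) (q : X.V) : X.rp (X.av g hg q) = g * X.rp q * g⁻¹ :=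
  X.core.rep_act X.small hg q

theorem rp_Inv (q : X.V) : K.Inv (X.rp q) := ⟨X.core.rep_odd X.small q, X.core.rep_inv X.small q⟩

theorem rp_b (q : X.V) : Commute (X.rp q) K.b := X.core.comm _ (X.core.rep_mem X.small q)

theorem rp_of {r : G} (hr : K.Inv r) (hb : Commute r K.b) : ∃ q : X.V, X.rp q = r :=
  ⟨_, X.core.rep_unique X.small (X.core.inv_mem r hr.1 hb hr.2) hr.2⟩

theorem rp_inj : Function.Injective X.rp := X.core.rep_injective X.small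

theorem rp_eq_one {q : X.V} : X.rp q = 1 → q = 1 := X.core.rep_eq_one X.small

theorem rp_pow (q : X.V) (n : ℕ) : X.rp (q ^ n) = X.rp q ^ n := X.core.rep_pow X.small q n

theorem av_eq {g : G} (hg : Nb K.z K.b g) (q : X.V) : X.av g hg q = q ↔ Commute g (X.rp q) :=
  X.core.act_eq_self X.small hg q

theorem cube_of_rp {q : X.V} (h : X.rp q ^ 3 = 1) : q ^ 3 = 1 := X.rp_eq_one (by rw [X.rp_pow, h])

/-- The action of `x`. -/
noncomputable def ax : MulAut X.V := X.av K.x nb_x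
/-- The action of `y`. -/
noncomputable def ay : MulAut X.V := X.av K.y nb_y
/-- The action of `t'`. -/
noncomputable def τ : MulAut X.V := X.av X.t' X.nb_t'
/-- The action of `h'`. -/
noncomputable def η : MulAut X.V := X.av X.h' X.nb_h'

theorem rp_mulAut {f : MulAut X.V} {g : G} (h : ∀ q, X.rp (f q) = g * X.rp q * g⁻¹) {f' : MulAut X.V} {g' : G}
    (h' : ∀ q, X.rp (f' q) = g' * X.rp q * g'⁻¹) (q : X.V) :
    X.rp ((f * f') q) = g * g' * X.rp q * (g * g')⁻¹ := by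
  rw [MulAut.mul_apply, h, h']; group

theorem rp_ax (q : X.V) : X.rp (X.ax q) = K.x * X.rp q * K.x⁻¹ := X.rp_av nb_x q
theorem rp_ay (q : X.V) : X.rp (X.ay q) = K.y * X.rp q * K.y⁻¹ := X.rp_av nb_y q
theorem rp_axy (q : X.V) : X.rp ((X.ax * X.ay) q) = K.x * K.y * X.rp q * (K.x * K.y)⁻¹ :=
  X.rp_mulAut X.rp_ax X.rp_ay q

theorem pair : Pair X.ax X.ay := by
  have three : ∀ (f : MulAut X.V) (g : G), (∀ q, X.rp (f q) = g * X.rp q * g⁻¹) → g ^ 3 = 1 → f ^ 3 = 1 := by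
    intro f g h hg
    ext q
    apply X.rp_inj
    rw [pow_succ, pow_two, MulAut.mul_apply, MulAut.mul_apply, h, h, h, MulAut.one_apply,
      show g * (g * (g * X.rp q * g⁻¹) * g⁻¹) * g⁻¹ = g ^ 3 * X.rp q * (g ^ 3)⁻¹ by simp only [pow_succ, pow_zero, one_mul]; group, hg, one_mul, inv_one,
      mul_one]
  refine ⟨three _ _ X.rp_ax K.hx, three _ _ X.rp_ay K.hy, ?_⟩
  ext q
  apply X.rp_inj
  rw [X.rp_mulAut X.rp_ax X.rp_ay, X.rp_mulAut X.rp_ay X.rp_ax, K.hxy.eq]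

theorem mem_fix {f : MulAut X.V} {g : G} (h : ∀ q, X.rp (f q) = g * X.rp q * g⁻¹) (q : X.V) :
    q ∈ fixG f ↔ Commute g (X.rp q) := by
  rw [mem_fixG]
  constructor
  · intro e
    have := h q
    rw [e] at this
    exact (eq_mul_inv_iff_mul_eq.1 this).symm
  · intro e
    apply X.rp_inj
    rw [h, e.eq, mul_inv_cancel_right]

theorem fix_ax_cube : ∀ q ∈ fixG X.ax, q ^ 3 = 1 := fun q hq =>
  X.cube_of_rp (X.P1_cube _ (X.mem_P1.2 ⟨X.rp_Inv q, X.rp_b q, ((X.mem_fix X.rp_ax q).1 hq).symm⟩))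

theorem fix_ay_cube : ∀ q ∈ fixG X.ay, q ^ 3 = 1 := by
  intro q hq
  refine X.cube_of_rp ?_
  have hy := ((X.mem_fix X.rp_ay q).1 hq).symm
  have h1 := commute_conj K.s hy
  have h2 := commute_conj K.s (X.rp_b q)
  rw [K.s_y] at h1
  rw [K.s_b] at h2
  have := X.P1_cube _ (X.mem_P1.2 ⟨K.inv_conj K.hzs.symm (X.rp_Inv q), h1, h2⟩)
  rw [conj_pow] at this
  exact mul_inv_eq_one.1 (by simpa using this) |>.trans rfl

theorem τ_twice (q : X.V) : X.τ (X.τ q) = q := by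
  apply X.rp_inj
  rw [τ, X.rp_av, X.rp_av, t', show K.s * K.t * K.s⁻¹ * (K.s * K.t * K.s⁻¹ * X.rp q * (K.s * K.t * K.s⁻¹)⁻¹) *
    (K.s * K.t * K.s⁻¹)⁻¹ = K.s * (K.t * K.t) * K.s⁻¹ * X.rp q * (K.s * (K.t * K.t) * K.s⁻¹)⁻¹ by group,
    sq_eq_one_of K.ht]
  group

theorem ητ (q : X.V) : X.η (X.τ q) = (X.τ (X.η q))⁻¹ := by
  apply X.rp_inj
  have hinv : ∀ p : X.V, X.rp p⁻¹ = (X.rp p)⁻¹ := by
    intro p
    have hi : K.Inv (X.rp p)⁻¹ := ⟨odd_orderOf_inv (X.rp_Inv p).1, by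
      rw [← conj_inv, (X.rp_Inv p).2]⟩
    obtain ⟨p', hp'⟩ := X.rp_of hi (X.rp_b p).inv_left
    have : X.core.rep X.small p' = (X.rp p)⁻¹ := hp'
    have e : p' = p⁻¹ := by
      rw [← X.core.mk_rep X.small p', ← X.core.mk_rep X.small p, ← QuotientGroup.mk_inv]
      exact congrArg _ (Subtype.ext this)
    rw [← e]; exact hp'
  rw [hinv, η, τ, X.rp_av, X.rp_av, X.rp_av, X.rp_av]
  have hi := (K.inv_conj X.h'_z (X.rp_Inv q)).2
  have e : X.h' * X.t' * X.h'⁻¹ = X.t' * K.z := by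
    rw [h', t', s_conj, K.h_t, show K.s * (K.t * K.z) * K.s⁻¹ = K.s * K.t * K.s⁻¹ * (K.s * K.z * K.s⁻¹) by group,
      K.hzs.symm.eq, mul_inv_cancel_right]
  calc X.h' * (X.t' * X.rp q * X.t'⁻¹) * X.h'⁻¹ =
      (X.h' * X.t' * X.h'⁻¹) * (X.h' * X.rp q * X.h'⁻¹) * (X.h' * X.t' * X.h'⁻¹)⁻¹ := by group
    _ = X.t' * (K.z * (X.h' * X.rp q * X.h'⁻¹) * K.z⁻¹) * X.t'⁻¹ := by rw [e]; group
    _ = _ := by rw [hi]; group

theorem τ_stable {q : X.V} (hq : q ∈ fixG (X.ax * X.ay)) : X.τ q ∈ fixG (X.ax * X.ay) := by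
  rw [X.mem_fix X.rp_axy, τ, X.rp_av]
  have := commute_conj X.t' ((X.mem_fix X.rp_axy q).1 hq)
  rwa [show X.t' * (K.x * K.y) * X.t'⁻¹ = (X.t' * K.x * X.t'⁻¹) * (X.t' * K.y * X.t'⁻¹) by group, X.t'_x, X.t'_y,
    K.hxy.symm.eq] at this

theorem η_stable {q : X.V} (hq : q ∈ fixG (X.ax * X.ay)) : X.η q ∈ fixG (X.ax * X.ay) := by
  rw [X.mem_fix X.rp_axy, η, X.rp_av]
  have := commute_conj X.h' ((X.mem_fix X.rp_axy q).1 hq)
  rw [show X.h' * (K.x * K.y) * X.h'⁻¹ = (X.h' * K.x * X.h'⁻¹) * (X.h' * K.y * X.h'⁻¹) by group, X.h'_x, X.h'_y,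
    ← mul_inv_rev] at this
  simpa using this.inv_left

theorem fix_part_P2 (q : X.V) :
    (q ∈ fixG (X.ax * X.ay) ∧ X.τ q = q) ↔ K.s⁻¹ * X.rp q * K.s ∈ X.P2 := by
  rw [X.mem_fix X.rp_axy, τ, X.av_eq, X.mem_P2]
  constructor
  · rintro ⟨h1, h2⟩
    refine ⟨by simpa using K.inv_conj K.hzs.symm.inv_left (X.rp_Inv q), ?_, ?_, ?_⟩
    · have := commute_conj K.s⁻¹ (X.rp_b q)
      rw [inv_inv] at this; convert this using 1
      rw [← K.s_y]; group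
    · have := commute_conj K.s⁻¹ h1.symm
      rw [inv_inv] at this; convert this using 1
      rw [← K.s_d]; group
    · have := commute_conj K.s⁻¹ h2.symm
      rw [inv_inv] at this; convert this using 1
      rw [t']; group
  · rintro ⟨-, -, h1, h2⟩
    have a := commute_conj K.s h1
    have b := commute_conj K.s h2
    rw [show K.s * (K.s⁻¹ * X.rp q * K.s) * K.s⁻¹ = X.rp q by group] at a b
    rw [K.s_d] at a
    exact ⟨a.symm, b.symm⟩

theorem fix_axy_cube : ∀ q ∈ fixG (X.ax * X.ay), q ^ 3 = 1 := by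
  refine cube_of_split (fixG (X.ax * X.ay)) (fun q _ => ?_) (fun a _ b _ => mul_comm a b) X.τ X.η
    (fun q hq => X.τ_stable hq) (fun q hq => X.η_stable hq) (fun q _ => X.τ_twice q) (fun q _ => X.ητ q) ?_
  · obtain ⟨r, hr⟩ := X.core.odd _ (X.core.rep_mem X.small q)
    refine (X.core.rep_odd X.small q).of_dvd_nat (orderOf_dvd_of_pow_eq_one (X.rp_eq_one ?_))
    rw [X.rp_pow]; exact pow_orderOf_eq_one _
  · intro q hq h
    refine X.cube_of_rp ?_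
    have := X.P2_small.2 _ ((X.fix_part_P2 q).1 ⟨hq, h⟩)
    have e : (K.s⁻¹ * X.rp q * K.s) ^ 3 = K.s⁻¹ * X.rp q ^ 3 * K.s := by
      simp only [pow_succ, pow_zero, one_mul]; group
    rw [e] at this
    calc X.rp q ^ 3 = K.s * (K.s⁻¹ * X.rp q ^ 3 * K.s) * K.s⁻¹ := by group
      _ = 1 := by rw [this]; group

theorem fix_axy'_cube : ∀ q ∈ fixG (X.ax * X.ay⁻¹), q ^ 3 = 1 := by
  intro q hq
  have hq' : Commute (K.x * K.y⁻¹) (X.rp q) := by
    refine (X.mem_fix (fun q => ?_) q).1 hq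
    refine X.rp_mulAut X.rp_ax (fun p => ?_) q
    have := X.rp_ay (X.ay⁻¹ p)
    rw [MulAut.apply_inv_self] at this
    rw [this]; group
  have q0b : K.t * K.h * K.b * (K.t * K.h)⁻¹ = K.b⁻¹ := by
    rw [show K.t * K.h * K.b * (K.t * K.h)⁻¹ = K.t * (K.h * K.b * K.h⁻¹) * K.t⁻¹ by group, K.h_b, ← conj_inv, K.t_x]
  have hn : Nb K.z K.b (K.t * K.h) := ⟨K.hzt.symm.mul_left K.hzh.symm, Or.inr q0b⟩
  have e : K.t * K.h * (K.x * K.y⁻¹) * (K.t * K.h)⁻¹ = (K.x * K.y)⁻¹ := by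
    rw [show K.t * K.h * (K.x * K.y⁻¹) * (K.t * K.h)⁻¹ =
      K.t * (K.h * K.x * K.h⁻¹) * K.t⁻¹ * (K.t * (K.h * K.y * K.h⁻¹) * K.t⁻¹)⁻¹ by group, K.h_x, K.h_y,
      ← conj_inv, ← conj_inv, K.t_b, K.t_y, inv_inv, K.hxy.eq, mul_inv_rev]
  have h1 := commute_conj (K.t * K.h) hq'
  rw [e, ← X.rp_av hn] at h1
  have h2 : Commute (K.x * K.y) (X.rp (X.av _ hn q)) := by simpa using h1.inv_left
  have h3 := X.fix_axy_cube _ ((X.mem_fix X.rp_axy _).2 h2)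
  rw [← map_pow] at h3
  exact (MulEquiv.map_eq_one_iff _).1 h3

end Ctx

end H33.TwoAn
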