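import Cfsg.Agent.H33.TwoAn.LocalNine

/-!
Degree ten: the odd core of the centraliser of a three-cycle is `⟨b⟩`; the local module.
-/

set_option autoImplicit false
set_option linter.unusedSectionVars false
set_option linter.style.haveILetI false

namespace H33.TwoAn

universe u

variable {G : Type u} [Group G] [Finite G] {K : Cfg G}

namespace Ctx

variable (X : Ctx K)

theorem ten {q : G} (hT : Cfg.Ten K q) : ∀ v : X.V, v = 1 := by
  by_contra hne
  push Not at hne
  obtain ⟨q₀, hq₀⟩ := hne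
  have hPRt1 : Nat.card X.PRt ≠ 1 := fun h => X.PR_ne hq₀ (by rw [X.card_PR, h]; rfl)
  obtain ⟨g, hg⟩ := K.fuse
  have hfz : K.IsFuse K.t g := hg
  have qb : q * K.b * q⁻¹ = K.b := by rw [hT.hbq.symm.eq, mul_inv_cancel_right]
  have qx : q * K.x * q⁻¹ = K.x := by rw [hT.hxq.symm.eq, mul_inv_cancel_right]
  let R' : Subgroup G := X.PR.map (MulAut.conj q).toMonoidHom
  have hR'le : R' ≤ X.P1 := by
    rintro _ ⟨r, hr, rfl⟩
    obtain ⟨hi, hb, hx, -⟩ := X.mem_PR.1 hr
    refine X.mem_P1.2 ⟨K.inv_conj hT.hzq.symm hi, ?_, ?_⟩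
    · have := commute_conj q hb; rwa [qb] at this
    · have := commute_conj q hx; rwa [qx] at this
  have hdis : ∀ r ∈ X.PR, ∀ r' ∈ X.PR, r = q * r' * q⁻¹ → r = 1 := by
    intro r hr r' hr' e
    obtain ⟨hi, -, -, hy⟩ := X.mem_PR.1 hr
    have h2 : Commute r (q * K.y * q⁻¹) := e ▸ commute_conj q (X.mem_PR.1 hr').2.2.2
    refine K.inv_eq_one hi ?_
    rw [← hT.gen_q]
    exact (hy.inv_right.mul_right h2).symm.pow_left 2
  have hdis' := hdis
  have hbot : X.PR ⊓ R' = ⊥ := by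
    rw [Subgroup.eq_bot_iff_forall]
    rintro r ⟨hr, r', hr', e⟩
    exact hdis r hr r' hr' e.symm
  have hsq : Nat.card X.PR * Nat.card X.PR ≤ Nat.card X.P1 := by
    have h1 := card_sup_disjoint X.PR R' (fun a ha b hb => X.P1_comm a ha.1 b (hR'le hb)) hbot
    rw [show Nat.card R' = Nat.card X.PR from Subgroup.card_map_of_injective (MulAut.conj q).injective] at h1
    rw [← h1]
    exact Nat.le_of_dvd Nat.card_pos (Subgroup.card_dvd_of_le (sup_le (fun r hr => hr.1) hR'le))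
  rw [X.card_PR, X.card_P1, ← mul_pow] at hsq
  have hsq' : Nat.card X.PRt * Nat.card X.PRt ≤ Nat.card X.P1t := (Nat.pow_le_pow_iff_left two_ne_zero).1 hsq
  have hdvd := Subgroup.card_dvd_of_le X.PRt_le_P1t
  obtain ⟨hR, hP1⟩ : Nat.card X.PRt = 3 ∧ Nat.card X.P1t = 9 := by
    have hpos : 0 < Nat.card X.PRt := Nat.card_pos
    rcases X.card_cases.1 with h | h | h <;> rw [h] at hdvd hsq'
    · exact absurd (Nat.eq_one_of_dvd_one hdvd) hPRt1
    · rcases (Nat.dvd_prime Nat.prime_three).1 hdvd with e | e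
      · exact absurd e hPRt1
      · rw [e] at hsq'; omega
    · refine ⟨?_, h⟩
      have hle : Nat.card X.PRt ≤ 3 := by
        by_contra hh
        have : 4 * 4 ≤ Nat.card X.PRt * Nat.card X.PRt := Nat.mul_le_mul (by omega) (by omega)
        omega
      interval_cases hc : Nat.card X.PRt
      · exact absurd rfl hPRt1
      · exact absurd hdvd (by decide)
      · rfl
  have hP2 : Nat.card X.P2 = 9 := by
    rcases X.card_cases.2 with h | h | h
    · have := X.ineq_one; rw [X.card_P1, hP1, h] at this; norm_num at this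
    · have := X.ineq_one; rw [X.card_P1, hP1, h] at this; norm_num at this
    · exact h
  obtain ⟨hc1, -, -, hm1⟩ := K.small_inverted hfz X.P1t (fun r hr => (X.mem_P1t.1 hr).1)
    (fun r hr => ⟨(X.mem_P1t.1 hr).2.2.2, (X.mem_P1t.1 hr).2.2.1.mul_right (X.mem_P1t.1 hr).2.1⟩)
    (fun r hr r' hr' => X.P1_comm r hr.1 r' hr'.1) K.td.symm
  obtain ⟨hc2, -, -, hm2⟩ := K.small_inverted hfz X.P2 (fun r hr => (X.mem_P2.1 hr).1)
    (fun r hr => ⟨(X.mem_P2.1 hr).2.2.2, (X.mem_P2.1 hr).2.2.1⟩) X.P2_comm K.td.symm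
  rw [hP1] at hc1
  rw [hP2] at hc2
  set S1 := X.P1t ⊔ Subgroup.zpowers K.d
  set S2 := X.P2 ⊔ Subgroup.zpowers K.d
  have hne12 : S1 ≠ S2 := by
    intro e
    have h2y : S2 ≤ Subgroup.centralizer ({K.y} : Set G) := sup_le
      (fun r hr => Subgroup.mem_centralizer_singleton_iff.2 (X.mem_P2.1 hr).2.1.eq)
      (Subgroup.zpowers_le.2 (Subgroup.mem_centralizer_singleton_iff.2 K.hdy.eq))
    have hle : X.P1t ≤ X.PRt := fun r hr => by
      refine ⟨⟨hr.1, h2y (e ▸ Subgroup.mem_sup_left hr)⟩, hr.2⟩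
    have := Nat.le_of_dvd Nat.card_pos (Subgroup.card_dvd_of_le hle)
    omega
  set D : Subgroup G := Subgroup.closure ({K.d, K.e} : Set G) with hD
  have hmeet : ∀ r ∈ X.PRt, g⁻¹ * r * g ∈ D := by
    intro r hr
    let T1 := S1.map (MulAut.conj g⁻¹).toMonoidHom
    let T2 := S2.map (MulAut.conj g⁻¹).toMonoidHom
    have hcT : ∀ S : Subgroup G, (∀ r ∈ S, Odd (orderOf r) ∧ Commute r K.t ∧ Commute r K.d) →
        ∀ r ∈ S.map (MulAut.conj g⁻¹).toMonoidHom, Commute r K.z ∧ Commute r (K.x * K.b) := by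
      rintro S hS _ ⟨r, hr, rfl⟩
      have := K.pull_comm hfz (hS r hr).2.1 (hS r hr).2.2
      simpa [Cfg.d] using this
    have := hT.meet T1 T2 ((Subgroup.card_map_of_injective (MulAut.conj g⁻¹).injective).trans hc1)
      ((Subgroup.card_map_of_injective (MulAut.conj g⁻¹).injective).trans hc2)
      (fun e => hne12 (Subgroup.map_injective (MulAut.conj g⁻¹).injective e)) (hcT S1 hm1) (hcT S2 hm2)
    have hmem : g⁻¹ * r * g ∈ T1 ⊓ T2 :=
      ⟨⟨r, Subgroup.mem_sup_left (X.PRt_le_P1t hr), by simp⟩, ⟨r, Subgroup.mem_sup_left (X.PRt_le_P2 hr), by simp⟩⟩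
    rw [this] at hmem
    exact hmem
  obtain ⟨⟨r0, hr0⟩, hr01⟩ : ∃ r : X.PRt, r ≠ 1 := by
    haveI : Nontrivial X.PRt := Finite.one_lt_card_iff_nontrivial.1 (by omega)
    exact exists_ne 1
  have hr01 : r0 ≠ 1 := fun e => hr01 (Subtype.ext e)
  set g2 := K.h * g * K.h⁻¹ with hg2
  have hzh' : K.h * K.z * K.h⁻¹ = K.z := by rw [K.hzh.symm.eq, mul_inv_cancel_right]
  have g2z : g2 * K.z * g2⁻¹ = K.t * K.z := by
    nth_rw 1 [← hzh']
    rw [hg2, show K.h * g * K.h⁻¹ * (K.h * K.z * K.h⁻¹) * (K.h * g * K.h⁻¹)⁻¹ =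
      K.h * (g * K.z * g⁻¹) * K.h⁻¹ by group, hg.1, K.h_t]
  have g2d : g2 * K.d * g2⁻¹ = K.d := by
    have e : K.h * K.d⁻¹ * K.h⁻¹ = K.d := by rw [← conj_inv, K.h_d, inv_inv]
    nth_rw 1 [← e]
    rw [hg2, show K.h * g * K.h⁻¹ * (K.h * K.d⁻¹ * K.h⁻¹) * (K.h * g * K.h⁻¹)⁻¹ =
      K.h * (g * K.d * g⁻¹)⁻¹ * K.h⁻¹ by group, hfz.2, e]
  have qd : q * K.d * q⁻¹ = K.d := by
    rw [Cfg.d, show q * (K.x * K.b) * q⁻¹ = q * K.x * q⁻¹ * (q * K.b * q⁻¹) by group, qx, qb]
  set δ := g2⁻¹ * (q * g) with hδ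
  have δz : Commute δ K.z := by
    refine mul_inv_eq_iff_eq_mul.1 ?_
    rw [hδ, show g2⁻¹ * (q * g) * K.z * (g2⁻¹ * (q * g))⁻¹ = g2⁻¹ * (q * (g * K.z * g⁻¹) * q⁻¹) * g2 by group, hg.1,
      hT.q_t, ← g2z]
    group
  have δd : Commute δ K.d := by
    refine mul_inv_eq_iff_eq_mul.1 ?_
    rw [hδ, show g2⁻¹ * (q * g) * K.d * (g2⁻¹ * (q * g))⁻¹ = g2⁻¹ * (q * (g * K.d * g⁻¹) * q⁻¹) * g2 by group, hfz.2,
      qd]
    nth_rw 1 [← g2d]; group
  have hD0 := hmeet r0 hr0
  have hDh : ∀ r ∈ D, K.h * r * K.h⁻¹ ∈ D := by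
    intro r hr
    have hle : D ≤ D.comap (MulAut.conj K.h).toMonoidHom := by
      refine (Subgroup.closure_le _).2 ?_
      intro a ha
      simp only [Set.mem_insert_iff, Set.mem_singleton_iff] at ha
      show K.h * a * K.h⁻¹ ∈ D
      rcases ha with rfl | rfl
      · rw [K.h_d]; exact D.inv_mem (Subgroup.subset_closure (by simp))
      · rw [K.h_e]; exact Subgroup.subset_closure (by simp)
    exact hle hr
  set r1 := K.h * r0 * K.h⁻¹ with hr1
  set r2 := q * r0 * q⁻¹ with hr2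
  have hr1D : g2⁻¹ * r1 * g2 ∈ D := by
    rw [show g2⁻¹ * r1 * g2 = K.h * (g⁻¹ * r0 * g) * K.h⁻¹ by rw [hg2, hr1]; group]
    exact hDh _ hD0
  have hr2D : g2⁻¹ * r2 * g2 ∈ D := by
    rw [show g2⁻¹ * r2 * g2 = δ * (g⁻¹ * r0 * g) * δ⁻¹ by rw [hδ, hr2]; group]
    exact hT.normal_D δ δz δd _ hD0
  have hdD : g2⁻¹ * K.d * g2 ∈ D := by
    rw [show g2⁻¹ * K.d * g2 = K.d by nth_rw 1 [← g2d]; group]
    exact Subgroup.subset_closure (by simp)
  have hDA : D ≤ K.A := by
    refine (Subgroup.closure_le _).2 ?_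
    intro a ha
    simp only [Set.mem_insert_iff, Set.mem_singleton_iff] at ha
    rcases ha with rfl | rfl
    exacts [K.d_mem, K.e_mem]
  have hD9 : Nat.card D ≤ 9 := by
    have hdv : Nat.card D ∣ 27 := K.indep ▸ Subgroup.card_dvd_of_le hDA
    have hne27 : Nat.card D ≠ 27 := by
      intro h
      have hy : K.y ∈ D := by
        rw [Subgroup.eq_of_le_of_card_ge hDA (by rw [h]; exact K.indep.le)]; exact K.y_mem
      have hform : ∀ r ∈ D, ∃ i j : ℕ, r = K.b ^ i * K.x ^ j := by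
        intro r hr
        have hle : D ≤ Subgroup.closure ({K.b, K.x} : Set G) := by
          refine (Subgroup.closure_le _).2 ?_
          intro a ha
          simp only [Set.mem_insert_iff, Set.mem_singleton_iff] at ha
          rcases ha with rfl | rfl
          · exact Subgroup.mul_mem _ (Subgroup.subset_closure (by simp)) (Subgroup.subset_closure (by simp))
          · exact Subgroup.mul_mem _ (Subgroup.subset_closure (by simp))
              (Subgroup.inv_mem _ (Subgroup.subset_closure (by simp)))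
        have hr' := hle hr
        clear hr
        induction hr' using Subgroup.closure_induction with
        | mem a ha =>
          simp only [Set.mem_insert_iff, Set.mem_singleton_iff] at ha
          rcases ha with rfl | rfl
          · exact ⟨1, 0, by simp⟩
          · exact ⟨0, 1, by simp⟩
        | one => exact ⟨0, 0, by simp⟩
        | mul a c _ _ iha ihc =>
          obtain ⟨i, j, rfl⟩ := iha
          obtain ⟨i', j', rfl⟩ := ihc
          refine ⟨i + i', j + j', ?_⟩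
          have := Cfg.form_mul (K := K) i j 0 i' j' 0
          simpa using this
        | inv a _ iha =>
          obtain ⟨i, j, rfl⟩ := iha
          refine ⟨2 * i, 2 * j, inv_eq_of_mul_eq_one_right ?_⟩
          have := Cfg.form_mul (K := K) i j 0 (2 * i) (2 * j) 0
          simp only [pow_zero, mul_one, add_zero] at this
          rw [this, show i + 2 * i = 3 * i by ring, show j + 2 * j = 3 * j by ring, pow_mul, pow_mul, K.hb, K.hx,
            one_pow, one_pow, one_mul]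
      obtain ⟨i, j, e⟩ := hform _ hy
      have := Cfg.exps_mod (K := K) (i := i) (j := j) (k := 0) (i' := 0) (j' := 0) (k' := 1) (by simpa using e.symm)
      omega
    have hle := Nat.le_of_dvd (by norm_num) hdv
    by_contra h
    interval_cases hc : Nat.card D <;> omega
  let M : Subgroup G := D.map (MulAut.conj g2).toMonoidHom
  have hmemM : ∀ r, g2⁻¹ * r * g2 ∈ D → r ∈ M := fun r hr => ⟨_, hr, by simp [mul_assoc]⟩
  have hMcomm : ∀ a ∈ M, ∀ c ∈ M, Commute a c := by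
    rintro _ ⟨a, ha, rfl⟩ _ ⟨c, hc, rfl⟩
    exact commute_conj g2 (K.A_comm (hDA ha) (hDA hc))
  have hr1i : K.Inv r1 := K.inv_conj K.hzh.symm (X.mem_PRt.1 hr0).1
  have hr2i : K.Inv r2 := K.inv_conj hT.hzq.symm (X.mem_PRt.1 hr0).1
  let Q := Subgroup.zpowers r1 ⊔ Subgroup.zpowers r2
  have hQM : Q ≤ M := sup_le (Subgroup.zpowers_le.2 (hmemM _ hr1D)) (Subgroup.zpowers_le.2 (hmemM _ hr2D))
  have hdis : Q ⊓ Subgroup.zpowers K.d = ⊥ := by
    rw [Subgroup.eq_bot_iff_forall]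
    rintro r ⟨hr, m, rfl⟩
    have hr' : K.z * K.d ^ m * K.z⁻¹ = (K.d ^ m)⁻¹ := by
      have hQi : ∀ r ∈ Q, K.z * r * K.z⁻¹ = r⁻¹ := by
        intro r hr
        change r ∈ Subgroup.zpowers r1 ⊔ Subgroup.zpowers r2 at hr
        rw [Subgroup.zpowers_eq_closure, Subgroup.zpowers_eq_closure, ← Subgroup.closure_union] at hr
        have key : r ∈ M ∧ K.z * r * K.z⁻¹ = r⁻¹ := by
          induction hr using Subgroup.closure_induction with
          | mem a ha =>
            rcases ha with rfl | rfl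
            exacts [⟨hmemM _ hr1D, hr1i.2⟩, ⟨hmemM _ hr2D, hr2i.2⟩]
          | one => exact ⟨M.one_mem, by simp⟩
          | mul a c _ _ iha ihc =>
            refine ⟨M.mul_mem iha.1 ihc.1, ?_⟩
            rw [show K.z * (a * c) * K.z⁻¹ = K.z * a * K.z⁻¹ * (K.z * c * K.z⁻¹) by group, iha.2, ihc.2,
              ← mul_inv_rev, (hMcomm a iha.1 c ihc.1).eq]
          | inv a _ iha => exact ⟨M.inv_mem iha.1, by rw [← conj_inv, iha.2]⟩
        exact key.2
      exact hQi _ hr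
    exact eq_one_of_inv_comm (K.odd_zpowers_d ⟨m, rfl⟩) hr' (K.hzd.zpow_right m)
  have hQd : Nat.card Q * 3 ≤ 9 := by
    have h := card_sup_disjoint Q (Subgroup.zpowers K.d)
      (fun a ha c hc => hMcomm a (hQM ha) c (Subgroup.zpowers_le.2 (hmemM _ hdD) hc)) hdis
    rw [K.card_zpowers_d] at h
    rw [← h]
    exact le_trans (Nat.le_of_dvd Nat.card_pos (Subgroup.card_dvd_of_le
      (sup_le hQM (Subgroup.zpowers_le.2 (hmemM _ hdD)))))
      (le_of_eq_of_le (Subgroup.card_map_of_injective (MulAut.conj g2).injective) hD9)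
  have hr11 : r1 ≠ 1 := fun e => hr01 (conj_eq_one_iff.1 e)
  have h3 : orderOf r1 = 3 := by
    haveI : Fact (Nat.Prime 3) := ⟨Nat.prime_three⟩
    exact orderOf_eq_prime (X.P1_cube _ (X.conj_h_PR hr0.1).1) hr11
  have hQ1 : Subgroup.zpowers r1 = Q := by
    refine Subgroup.eq_of_le_of_card_ge le_sup_left ?_
    rw [Nat.card_zpowers, h3]; omega
  have hr2R : r2 ∈ X.PR := by
    have : r2 ∈ Subgroup.zpowers r1 := hQ1 ▸ Subgroup.mem_sup_right (Subgroup.mem_zpowers r2)
    exact Subgroup.zpowers_le.2 (X.conj_h_PR hr0.1) this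
  exact hr01 (conj_eq_one_iff.1 (hdis' _ hr2R r0 hr0.1 rfl))

end Ctx

/-- The local module. -/
theorem localStmt : LocalStmt.{u} := by
  intro G _ _ K hK g hg
  obtain ⟨X⟩ := exists_ctx K
  refine X.conclude ?_ g hg
  rcases hK with h | ⟨q, h⟩
  · exact X.nine h
  · exact X.ten h

end H33.TwoAn
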