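import Cfsg.Agent.H33.TwoAn.Basic

/-!
Splitting of an inverted subgroup by a commuting involution.
-/

set_option autoImplicit false
set_option linter.unusedSectionVars false

namespace H33.TwoAn

universe u

variable {H : Type u} [Group H] [Finite H]

/-- The fixed points of an automorphism of a group. -/
def fixE (τ : H ≃* H) : Subgroup H := τ.toMonoidHom.eqLocus (MonoidHom.id H)

theorem mem_fixE {τ : H ≃* H} {v : H} : v ∈ fixE τ ↔ τ v = v := Iff.rfl

theorem card_sup_disjoint (A B : Subgroup H) (hc : ∀ a ∈ A, ∀ b ∈ B, Commute a b) (hd : A ⊓ B = ⊥) :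
    Nat.card ↥(A ⊔ B) = Nat.card A * Nat.card B := by
  let f : A × B →* H := MonoidHom.noncommCoprod A.subtype B.subtype fun a b => hc a a.2 b b.2
  have hr : f.range = A ⊔ B := by
    refine (MonoidHom.noncommCoprod_range _ _ _).trans ?_
    rw [Subgroup.range_subtype, Subgroup.range_subtype]
  have hf : Function.Injective f := by
    rw [← MonoidHom.ker_eq_bot_iff, Subgroup.eq_bot_iff_forall]
    rintro ⟨a, b⟩ hab
    have hab' : (a : H) * b = 1 := hab
    have h1 : (a : H) = 1 := by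
      have h2 : (a : H) ∈ A ⊓ B := ⟨a.2, by rw [eq_inv_of_mul_eq_one_left hab']; exact B.inv_mem b.2⟩
      rw [hd] at h2
      exact h2
    rw [h1, one_mul] at hab'
    exact Prod.ext (Subtype.ext h1) (Subtype.ext hab')
  rw [← hr, ← Nat.card_prod]
  exact (Nat.card_congr (Equiv.ofInjective f hf)).symm

/-- `τ` of order two and `η` with `η τ = inv ∘ τ η` on an abelian group of odd order. -/
theorem card_split (S : Subgroup H) (hodd : ∀ r ∈ S, Odd (orderOf r)) (hcomm : ∀ r ∈ S, ∀ r' ∈ S, Commute r r')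
    (τ η : H ≃* H) (hτ : ∀ r ∈ S, τ r ∈ S) (hη : ∀ r ∈ S, η r ∈ S) (h2 : ∀ r ∈ S, τ (τ r) = r)
    (hrel : ∀ r ∈ S, η (τ r) = (τ (η r))⁻¹) :
    Nat.card S = Nat.card ↥(S ⊓ fixE τ) ^ 2 := by
  have hηs : ∀ r ∈ S, ∃ r' ∈ S, η r' = r := by
    intro r hr
    have hinj : Function.Injective (fun k : S => (⟨η k, hη _ k.2⟩ : S)) := fun a b e =>
      Subtype.ext (η.injective (congrArg Subtype.val e))
    obtain ⟨k, hk⟩ := Finite.surjective_of_injective hinj ⟨r, hr⟩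
    exact ⟨k, k.2, congrArg Subtype.val hk⟩
  let f : ↥(S ⊓ fixE τ) × ↥(S ⊓ fixE τ) → S := fun p =>
    ⟨(p.1 : H) * η p.2, S.mul_mem p.1.2.1 (hη _ p.2.2.1)⟩
  have hneg : ∀ r ∈ S, τ r = r → τ (η r) = (η r)⁻¹ := by
    intro r hr h
    have := hrel r hr
    rw [h] at this
    rw [eq_comm, inv_eq_iff_eq_inv] at this
    exact this
  rw [pow_two, ← Nat.card_prod]
  refine (Nat.card_congr (Equiv.ofBijective f ⟨?_, ?_⟩)).symm
  · rintro ⟨p, q⟩ ⟨p', q'⟩ e
    have e' : (p : H) * η q = (p' : H) * η q' := congrArg Subtype.val e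
    set u := (p' : H)⁻¹ * (p : H) with hu
    have huS : u ∈ S := S.mul_mem (S.inv_mem p'.2.1) p.2.1
    have hue : u = η ((q' : H) * (q : H)⁻¹) := by
      rw [hu, inv_mul_eq_iff_eq_mul, map_mul, map_inv, ← mul_assoc, eq_mul_inv_iff_mul_eq]; exact e'
    have hfix : τ u = u := (fixE τ).mul_mem ((fixE τ).inv_mem p'.2.2) p.2.2
    have hn : τ u = u⁻¹ := by
      rw [hue]
      exact hneg _ (S.mul_mem q'.2.1 (S.inv_mem q.2.1)) ((fixE τ).mul_mem q'.2.2 ((fixE τ).inv_mem q.2.2))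
    have h0 : u = 1 := eq_one_of_inv_self (hodd u huS) (by rw [← hn, hfix])
    have h1 : (q' : H) * (q : H)⁻¹ = 1 := η.injective (by rw [map_one, ← hue, h0])
    exact Prod.ext (Subtype.ext (inv_mul_eq_one.1 h0).symm) (Subtype.ext (mul_inv_eq_one.1 h1).symm)
  · intro r
    obtain ⟨m, hm⟩ := hodd r r.2
    set u := (r : H) * τ r
    set v := (r : H) * (τ r)⁻¹
    have huS : u ∈ S := S.mul_mem r.2 (hτ _ r.2)
    have hvS : v ∈ S := S.mul_mem r.2 (S.inv_mem (hτ _ r.2))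
    have hu : τ u = u := by
      show τ ((r : H) * τ r) = (r : H) * τ r
      rw [map_mul, h2 _ r.2, (hcomm _ (hτ _ r.2) _ r.2).eq]
    have hv : τ v = v⁻¹ := by
      show τ ((r : H) * (τ r)⁻¹) = ((r : H) * (τ r)⁻¹)⁻¹
      rw [map_mul, map_inv, h2 _ r.2, mul_inv_rev, inv_inv]
    obtain ⟨w, hw, hwv⟩ := hηs _ (S.pow_mem hvS (m + 1))
    have hwf : τ w = w := by
      refine η.injective ?_
      rw [hrel w hw, hwv, map_pow, hv, inv_pow, inv_inv]
    refine ⟨(⟨u ^ (m + 1), S.pow_mem huS _, (fixE τ).pow_mem hu _⟩, ⟨w, hw, hwf⟩), Subtype.ext ?_⟩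
    show u ^ (m + 1) * η w = r
    rw [hwv, ← (hcomm u huS v hvS).mul_pow]
    have huv : u * v = (r : H) * r := by
      show (r : H) * τ r * ((r : H) * (τ r)⁻¹) = _
      rw [mul_assoc, ← mul_assoc (τ r), (hcomm _ (hτ _ r.2) _ r.2).eq, mul_assoc, mul_inv_cancel, mul_one]
    rw [huv, ← pow_two, ← pow_mul, show 2 * (m + 1) = orderOf (r : H) + 1 by omega, pow_succ, pow_orderOf_eq_one,
      one_mul]

/-- A subgroup of odd order on which an involution has no fixed point is inverted, and abelian. -/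
theorem all_inv {z : H} (hz : orderOf z = 2) (S : Subgroup H) (hodd : ∀ r ∈ S, Odd (orderOf r))
    (hn : ∀ r ∈ S, z * r * z⁻¹ ∈ S) (hfix : ∀ r ∈ S, Commute r z → r = 1) :
    (∀ r ∈ S, z * r * z⁻¹ = r⁻¹) ∧ ∀ r ∈ S, ∀ r' ∈ S, Commute r r' := by
  have h2 : ∀ r : H, z * (z * r * z⁻¹) * z⁻¹ = r := fun r => by
    rw [inv_of_two hz, show z * (z * r * z) * z = (z * z) * r * (z * z) by group, sq_eq_one_of hz, one_mul, mul_one]
  let σ : S ≃* S :=
    { toFun := fun r => ⟨z * r * z⁻¹, hn _ r.2⟩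
      invFun := fun r => ⟨z * r * z⁻¹, hn _ r.2⟩
      left_inv := fun r => Subtype.ext (h2 r)
      right_inv := fun r => Subtype.ext (h2 r)
      map_mul' := fun a b => Subtype.ext (show z * ((a : H) * b) * z⁻¹ = z * a * z⁻¹ * (z * b * z⁻¹) by group) }
  have key := inv_of_fixedPointFree σ (fun r => σ.left_inv r) fun r h => Subtype.ext
    (hfix _ r.2 (mul_inv_eq_iff_eq_mul.1 (congrArg Subtype.val h)).symm)
  have hi : ∀ r ∈ S, z * r * z⁻¹ = r⁻¹ := fun r hr => congrArg Subtype.val (key ⟨r, hr⟩)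
  refine ⟨hi, fun r hr r' hr' => ?_⟩
  have e1 := hi _ (S.mul_mem hr hr')
  rw [show z * (r * r') * z⁻¹ = z * r * z⁻¹ * (z * r' * z⁻¹) by group, hi r hr, hi r' hr', ← mul_inv_rev, inv_inj] at e1
  exact e1.symm

end H33.TwoAn

namespace H33.TwoAn

universe v

variable {H : Type v} [Group H] [Finite H]

/-- If the fixed part has exponent three, so has everything. -/
theorem cube_of_split (S : Subgroup H) (hodd : ∀ r ∈ S, Odd (orderOf r)) (hcomm : ∀ r ∈ S, ∀ r' ∈ S, Commute r r')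
    (τ η : H ≃* H) (hτ : ∀ r ∈ S, τ r ∈ S) (hη : ∀ r ∈ S, η r ∈ S) (h2 : ∀ r ∈ S, τ (τ r) = r)
    (hrel : ∀ r ∈ S, η (τ r) = (τ (η r))⁻¹) (hc : ∀ r ∈ S, τ r = r → r ^ 3 = 1) : ∀ r ∈ S, r ^ 3 = 1 := by
  intro r hr
  have huS : r * τ r ∈ S := S.mul_mem hr (hτ _ hr)
  have hvS : r * (τ r)⁻¹ ∈ S := S.mul_mem hr (S.inv_mem (hτ _ hr))
  have hu : τ (r * τ r) = r * τ r := by rw [map_mul, h2 _ hr, (hcomm _ (hτ _ hr) _ hr).eq]
  have hv : τ (r * (τ r)⁻¹) = (r * (τ r)⁻¹)⁻¹ := by rw [map_mul, map_inv, h2 _ hr, mul_inv_rev, inv_inv]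
  have e1 := hc _ huS hu
  have e2 : (r * (τ r)⁻¹) ^ 3 = 1 := by
    refine η.injective ?_
    rw [map_pow, map_one]
    refine hc _ (hη _ hvS) ?_
    have h := hrel _ hvS
    rw [hv, map_inv] at h
    exact (inv_inj.1 h).symm
  have e3 : (r * τ r) * (r * (τ r)⁻¹) = r * r := by
    rw [mul_assoc, ← mul_assoc (τ r), (hcomm _ (hτ _ hr) _ hr).eq, mul_assoc, mul_inv_cancel, mul_one]
  have e4 : (r ^ 3) * (r ^ 3) = 1 := by
    rw [← (Commute.refl r).mul_pow, ← e3, (hcomm _ huS _ hvS).mul_pow, e1, e2, one_mul]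
  exact eq_one_of_inv_self ((hodd r hr).of_dvd_nat (orderOf_pow_dvd 3)) (inv_eq_of_mul_eq_one_right e4)

end H33.TwoAn
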